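import Cfsg.Agent.H198.TwComp

/-!
# Symmetric compositions in characteristic three (S3510, triality, type iv; helper911)

`TC Q (refl) m`, `char F = 3`, `F` finite: `polar Q x (m x x) = (polar Q z x) ^ 3` for a vector `z`, fixed by all
automorphisms; `exists_vec`: a nondegenerate subspace `U` of even dimension containing `z` contains a vector `a` with
`Q a ≠ 0`, `4 Q(a)³ ≠ t(a)²` (for `|F| = 3` with `t(a)² - 4 Q(a)³` not a square), except one case with `|F| = 3`, `dim U = 2`.
-/

set_option autoImplicit false

namespace Cfsg.Agent.H911.RC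

open Module QuadraticMap Cfsg.Agent.LieClassical.OrthCore Cfsg.Agent.LieClassical.OrthTrans Cfsg.Agent.H198.TwComp

variable {F V : Type*} [Field F] [AddCommGroup V] [Module F V] {Q : QuadraticForm F V} {m : V → V → V}

section comp

variable (h : TC Q (RingEquiv.refl F) m)
include h

theorem tc_left (a b : V) : m (m a b) a = Q a • b := h.left a b

theorem tc_right (a b : V) : m a (m b a) = Q a • b := h.right a b

theorem tc_smul_left (k : F) (a b : V) : m (k • a) b = k • m a b := h.smul_left k a b

theorem tc_smul_right (k : F) (a b : V) : m a (k • b) = k • m a b := h.smul_right k a b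

theorem tc_mul (a b : V) : Q (m a b) = Q a * Q b := by
  by_cases ha : a = 0
  · rw [ha, h.zero_left, QuadraticMap.map_zero, zero_mul]
  have h1 := tc_left h (m a b) a
  rw [tc_left h a b, tc_smul_left h, tc_right h b a, smul_smul] at h1
  have h2 : (Q a * Q b - Q (m a b)) • a = 0 := by rw [sub_smul, h1, sub_self]
  exact (sub_eq_zero.1 ((smul_eq_zero.1 h2).resolve_right ha)).symm

theorem tc_polar_right (a b c : V) : polar Q (m a b) (m c b) = Q b * polar Q a c := by
  rw [polar, ← h.add_left, tc_mul h, tc_mul h, tc_mul h, polar]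
  ring

theorem tc_polar_left (a b c : V) : polar Q (m a b) (m a c) = Q a * polar Q b c := by
  rw [polar, ← h.add_right, tc_mul h, tc_mul h, tc_mul h, polar]
  ring

theorem tc_assoc (h2 : (2 : F) ≠ 0) (hQ : Nondeg Q) (a b c : V) : polar Q (m a b) c = polar Q a (m b c) := by
  have key : ∀ b, Q b ≠ 0 → polar Q (m a b) c = polar Q a (m b c) := by
    intro b hb
    have h1 := tc_polar_right h a b (m b c)
    rw [tc_left h, polar_smul_right, smul_eq_mul] at h1
    exact mul_left_cancel₀ hb h1
  by_cases hb : Q b = 0
  swap
  · exact key b hb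
  by_cases hb0 : b = 0
  · rw [hb0, h.zero_left, h.zero_right, polar_zero_left, polar_zero_right]
  -- a nonsingular vector
  obtain ⟨u, hu⟩ : ∃ u, Q u ≠ 0 := by
    by_contra hcon
    push Not at hcon
    apply hb0
    apply hQ
    intro y
    rw [polar, hcon, hcon, hcon, sub_zero, sub_zero]
  have hadd : ∀ b₁ b₂ : V, Q b₁ ≠ 0 → Q b₂ ≠ 0 → polar Q (m a (b₁ + b₂)) c = polar Q a (m (b₁ + b₂) c) := by
    intro b₁ b₂ h₁ h₂
    rw [h.add_right, h.add_left, polar_add_left, polar_add_right, key _ h₁, key _ h₂]
  have hp : ∀ x y, Q (x + y) = Q x + Q y + polar Q x y := by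
    intro x y
    rw [polar]; ring
  by_cases h3 : Q (b + u) = 0
  · have h4 : Q (b - u) ≠ 0 := by
      intro h5
      rw [hp, hb, zero_add] at h3
      rw [sub_eq_add_neg, hp, hb, zero_add, QuadraticMap.map_neg, polar_neg_right] at h5
      have h6 : (2 : F) * Q u = 0 := by linear_combination h3 + h5
      exact hu ((mul_eq_zero.1 h6).resolve_left h2)
    have h5 := hadd (b - u) u h4 hu
    rwa [sub_add_cancel] at h5
  · have h4 : Q (-u) ≠ 0 := by rwa [QuadraticMap.map_neg]
    have h5 := hadd (b + u) (-u) h3 h4
    rwa [add_neg_cancel_right] at h5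

theorem tc_cubic_add (h3 : (3 : F) = 0) (h2 : (2 : F) ≠ 0) (hQ : Nondeg Q) (x y : V) :
    polar Q (x + y) (m (x + y) (x + y)) = polar Q x (m x x) + polar Q y (m y y) := by
  have e1 : polar Q y (m x x) = polar Q x (m x y) := by
    rw [← tc_assoc h h2 hQ x x y, polar_comm]
  have e2 : polar Q x (m y x) = polar Q x (m x y) := by
    rw [← tc_assoc h h2 hQ x y x, polar_comm]
  have e3 : polar Q x (m y y) = polar Q y (m y x) := by
    rw [← tc_assoc h h2 hQ y y x, polar_comm]
  have e4 : polar Q y (m x y) = polar Q y (m y x) := by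
    rw [← tc_assoc h h2 hQ y x y, polar_comm]
  rw [h.add_left, h.add_right, h.add_right]
  simp only [polar_add_left, polar_add_right]
  rw [e1, e2, e3, e4]
  linear_combination (polar Q x (m x y) + polar Q y (m y x)) * h3

theorem tc_cubic_smul (c : F) (x : V) : polar Q (c • x) (m (c • x) (c • x)) = c ^ 3 * polar Q x (m x x) := by
  rw [tc_smul_left h, tc_smul_right h, polar_smul_left, polar_smul_right, polar_smul_right]
  simp only [smul_eq_mul]
  ring

/-- **the vector `z`** -/
theorem exists_z [Finite F] [CharP F 3] [FiniteDimensional F V] (hQ : Nondeg Q) :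
    ∃ z : V, ∀ x, polar Q x (m x x) = polar Q z x ^ 3 := by
  have hp3 : Fact (Nat.Prime 3) := ⟨Nat.prime_three⟩
  have h3 : (3 : F) = 0 := by exact_mod_cast CharP.cast_eq_zero F 3
  have h2 : (2 : F) ≠ 0 := by
    intro h2
    have : (1 : F) = 0 := by linear_combination h3 - h2
    exact one_ne_zero this
  let ε := frobeniusEquiv F 3
  let g : V →ₗ[F] F :=
    { toFun := fun x => ε.symm (polar Q x (m x x))
      map_add' := fun x y => by rw [tc_cubic_add h h3 h2 hQ, map_add]
      map_smul' := fun c x => by
        rw [tc_cubic_smul h, map_mul, RingHom.id_apply, smul_eq_mul]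
        congr 1
        rw [RingEquiv.symm_apply_eq]
        rfl }
  have hg : ∀ x, g x ^ 3 = polar Q x (m x x) := fun x => ε.apply_symm_apply _
  have hinj : Function.Injective (polarBilin Q : V →ₗ[F] Module.Dual F V) := by
    rw [injective_iff_map_eq_zero]
    intro x hx
    exact hQ x fun y => LinearMap.congr_fun hx y
  have hsur := (LinearMap.injective_iff_surjective_of_finrank_eq_finrank (Subspace.dual_finrank_eq (K := F) (V := V)).symm).1 hinj
  obtain ⟨z, hz⟩ := hsur g
  refine ⟨z, fun x => ?_⟩
  rw [← hg, ← hz]
  rfl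

omit h in
/-- `z` is fixed by all automorphisms -/
theorem fix_z [CharP F 3] (hQ : Nondeg Q) {z : V} (hz : ∀ x, polar Q x (m x x) = polar Q z x ^ 3) {s : V ≃ₗ[F] V}
    (hs : ∀ x, Q (s x) = Q x) (hm : ∀ x y, s (m x y) = m (s x) (s y)) : s z = z := by
  have hp3 : Fact (Nat.Prime 3) := ⟨Nat.prime_three⟩
  have hpol : ∀ x y, polar Q (s x) (s y) = polar Q x y := by
    intro x y
    rw [polar, ← map_add, hs, hs, hs, polar]
  have h1 : ∀ x, polar Q z x = polar Q z (s x) := by
    intro x
    apply frobenius_inj F 3
    rw [frobenius_def, frobenius_def, ← hz, ← hz, ← hm, hpol]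
  rw [← sub_eq_zero]
  apply hQ
  intro y
  obtain ⟨x, rfl⟩ := s.surjective y
  rw [sub_eq_add_neg, polar_add_left, polar_neg_left, hpol, ← h1, add_neg_cancel]

end comp

section core

variable [FiniteDimensional F V]

/-- orthogonal subspaces -/
theorem finrank_add_le (hQ : Nondeg Q) {A B : Submodule F V} (h : ∀ a ∈ A, ∀ b ∈ B, polar Q a b = 0) :
    finrank F A + finrank F B ≤ finrank F V := by
  let φ : A →ₗ[F] B.dualAnnihilator :=
    LinearMap.codRestrict _ ((polarBilin Q).comp A.subtype) (fun a => by
      rw [Submodule.mem_dualAnnihilator]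
      intro b hb
      exact h a a.2 b hb)
  have hφ : Function.Injective φ := by
    rw [injective_iff_map_eq_zero]
    intro a ha
    apply Subtype.ext
    apply hQ
    intro y
    exact LinearMap.congr_fun (congrArg Subtype.val ha) y
  have h1 := LinearMap.finrank_le_finrank_of_injective hφ
  have h2 := Subspace.finrank_add_finrank_dualAnnihilator_eq B
  omega

theorem finrank_ker_one (f : V →ₗ[F] F) : finrank F V ≤ finrank F (LinearMap.ker f) + 1 := by
  have h1 := LinearMap.finrank_range_add_finrank_ker f
  have h2 : finrank F (LinearMap.range f) ≤ 1 := by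
    have := Submodule.finrank_le (LinearMap.range f)
    rwa [finrank_self] at this
  omega

theorem finrank_ker_two (f g : V →ₗ[F] F) : finrank F V ≤ finrank F (LinearMap.ker (f.prod g)) + 2 := by
  have h1 := LinearMap.finrank_range_add_finrank_ker (f.prod g)
  have h2 : finrank F (LinearMap.range (f.prod g)) ≤ 2 := by
    have := Submodule.finrank_le (LinearMap.range (f.prod g))
    rwa [finrank_prod, finrank_self] at this
  omega

theorem polar_zero_of {A : Submodule F V} (h : ∀ a ∈ A, Q a = 0) {a b : V} (ha : a ∈ A) (hb : b ∈ A) :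
    polar Q a b = 0 := by
  rw [polar, h _ (A.add_mem ha hb), h _ ha, h _ hb, sub_zero, sub_zero]

/-- many elements -/
theorem vec_nine [Finite F] (h9 : 5 ≤ Nat.card F) (h2 : (2 : F) ≠ 0) (hQ : Nondeg Q) (hd : 2 ≤ finrank F V) (z : V) :
    ∃ a, Q a ≠ 0 ∧ Q a ≠ polar Q z a ^ 2 := by
  have := Fintype.ofFinite F
  obtain ⟨a₁, ha₁⟩ : ∃ a, Q a ≠ 0 := by
    by_contra hcon
    push Not at hcon
    have hnt : Nontrivial V := Module.nontrivial_of_finrank_pos (R := F) (by omega)
    obtain ⟨x, hx⟩ := exists_ne (0 : V)
    exact hx (hQ x fun y => by rw [polar, hcon, hcon, hcon, sub_zero, sub_zero])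
  obtain ⟨a₂, ha₂⟩ : ∃ a, polar Q z a ^ 2 - Q a ≠ 0 := by
    by_contra hcon
    push Not at hcon
    have h1 := finrank_ker_one (polarBilin Q z)
    have hnt : Nontrivial (LinearMap.ker (polarBilin Q z)) := Module.nontrivial_of_finrank_pos (R := F) (by omega)
    obtain ⟨x, hx⟩ := exists_ne (0 : LinearMap.ker (polarBilin Q z))
    apply hx
    apply Subtype.ext
    apply hQ
    intro y
    have h3 : polar Q z x = 0 := x.2
    have e1 := hcon (x + y)
    have e2 := hcon (x : V)
    have e3 := hcon y
    rw [polar_add_right, h3, Q_add] at e1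
    rw [h3] at e2
    linear_combination e2 + e3 - e1
  let P : Polynomial F := Polynomial.C (Q a₁) + Polynomial.C (polar Q a₁ a₂) * Polynomial.X +
    Polynomial.C (Q a₂) * Polynomial.X ^ 2
  let R : Polynomial F := Polynomial.C (polar Q z a₁ ^ 2 - Q a₁) +
    Polynomial.C (2 * polar Q z a₁ * polar Q z a₂ - polar Q a₁ a₂) * Polynomial.X +
    Polynomial.C (polar Q z a₂ ^ 2 - Q a₂) * Polynomial.X ^ 2
  have hP : ∀ c, P.eval c = Q (a₁ + c • a₂) := by
    intro c
    simp only [P, Polynomial.eval_add, Polynomial.eval_mul, Polynomial.eval_C, Polynomial.eval_X, Polynomial.eval_pow]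
    rw [Q_add, QuadraticMap.map_smul, polar_smul_right, smul_eq_mul, smul_eq_mul]
    ring
  have hR : ∀ c, R.eval c = polar Q z (a₁ + c • a₂) ^ 2 - Q (a₁ + c • a₂) := by
    intro c
    simp only [R, Polynomial.eval_add, Polynomial.eval_mul, Polynomial.eval_C, Polynomial.eval_X, Polynomial.eval_pow]
    rw [Q_add, QuadraticMap.map_smul, polar_smul_right, polar_add_right, polar_smul_right, smul_eq_mul, smul_eq_mul,
      smul_eq_mul]
    ring
  have hP0 : P ≠ 0 := by
    intro h
    have h1 := hP 0
    rw [h, Polynomial.eval_zero, zero_smul, add_zero] at h1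
    exact ha₁ h1.symm
  have hR0 : R ≠ 0 := by
    intro h
    have h1 : R.coeff 2 = polar Q z a₂ ^ 2 - Q a₂ := by
      simp only [R, Polynomial.coeff_add, Polynomial.coeff_C_mul, Polynomial.coeff_X_pow, Polynomial.coeff_X,
        Polynomial.coeff_C]
      norm_num
    rw [h, Polynomial.coeff_zero] at h1
    exact ha₂ h1.symm
  have hdP : P.natDegree ≤ 2 := by
    simp only [P]
    compute_degree
  have hdR : R.natDegree ≤ 2 := by
    simp only [R]
    compute_degree
  have hPR : (P * R).natDegree ≤ 4 := Polynomial.natDegree_mul_le.trans (by omega)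
  obtain ⟨c, hc⟩ := Polynomial.exists_eval_ne_zero_of_natDegree_lt_card (P * R) (mul_ne_zero hP0 hR0) (by
    rw [Cardinal.mk_fintype, ← Nat.card_eq_fintype_card]
    exact_mod_cast lt_of_le_of_lt hPR (by omega))
  rw [Polynomial.eval_mul, hP, hR] at hc
  exact ⟨_, left_ne_zero_of_mul hc, fun h => right_ne_zero_of_mul hc (by rw [← h, sub_self])⟩

/-- three elements -/
theorem vec_three (hF : ∀ c : F, c = 0 ∨ c = 1 ∨ c = -1) (h3 : (3 : F) = 0) (hQ : Nondeg Q)
    (hev : Even (finrank F V)) {z : V} (hz : z ≠ 0) :
    (∃ a, Q a ≠ 0 ∧ polar Q z a ^ 2 - Q a = -1) ∨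
      (Q z = 1 ∧ ∃ w, Q w = -1 ∧ polar Q z w = 0 ∧ ∀ x, ∃ α β : F, x = α • z + β • w) := by
  have h10 : (1 : F) ≠ 0 := one_ne_zero
  rcases hF (Q z) with h0 | h1 | h1
  · left
    obtain ⟨y, hy⟩ := hQ.exists_polar_eq hz (1 : F)
    refine ⟨-z + (y - Q y • z), ?_, ?_⟩
    · have e : Q (-z + (y - Q y • z)) = -1 := by
        rw [Q_add, sub_eq_add_neg, Q_add, QuadraticMap.map_neg, QuadraticMap.map_neg, QuadraticMap.map_smul, h0,
          polar_neg_right, polar_smul_right, polar_add_right, polar_neg_left, polar_neg_left, polar_neg_right,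
          polar_smul_right, polar_self', h0, hy, polar_comm Q y z, hy]
        simp only [smul_eq_mul]
        ring
      rw [e]
      exact neg_ne_zero.2 h10
    · have e : Q (-z + (y - Q y • z)) = -1 := by
        rw [Q_add, sub_eq_add_neg, Q_add, QuadraticMap.map_neg, QuadraticMap.map_neg, QuadraticMap.map_smul, h0,
          polar_neg_right, polar_smul_right, polar_add_right, polar_neg_left, polar_neg_left, polar_neg_right,
          polar_smul_right, polar_self', h0, hy, polar_comm Q y z, hy]
        simp only [smul_eq_mul]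
        ring
      rw [e, polar_add_right, polar_sub_right, polar_neg_right, polar_smul_right, polar_self', h0, hy]
      simp only [smul_eq_mul]
      linear_combination h3
  · -- `Q z = 1`
    have hpos : 0 < finrank F V := by
      have : Nontrivial V := ⟨⟨z, 0, hz⟩⟩
      exact finrank_pos
    have hker := finrank_ker_one (polarBilin Q z)
    by_cases hd : finrank F V = 2
    · have hnt : Nontrivial (LinearMap.ker (polarBilin Q z)) := Module.nontrivial_of_finrank_pos (R := F) (by omega)
      obtain ⟨w, hw⟩ := exists_ne (0 : LinearMap.ker (polarBilin Q z))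
      have hw0 : (w : V) ≠ 0 := fun h => hw (Subtype.ext h)
      have hzw : polar Q z w = 0 := w.2
      have hli : LinearIndependent F ![z, (w : V)] := by
        rw [LinearIndependent.pair_iff]
        intro s t hst
        have e1 : polar Q z (s • z + t • (w : V)) = 0 := by rw [hst, polar_zero_right]
        rw [polar_add_right, polar_smul_right, polar_smul_right, hzw, polar_self', h1, smul_eq_mul, smul_eq_mul] at e1
        have e2 : s = 0 := by linear_combination (-1 : F) * e1 + s * h3
        rw [e2, zero_smul, zero_add] at hst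
        exact ⟨e2, (smul_eq_zero.1 hst).resolve_right hw0⟩
      have hspan : Submodule.span F (Set.range ![z, (w : V)]) = ⊤ :=
        hli.span_eq_top_of_card_eq_finrank (by rw [Fintype.card_fin, hd])
      have hrep : ∀ x, ∃ α β : F, x = α • z + β • (w : V) := by
        intro x
        have hx : x ∈ Submodule.span F (Set.range ![z, (w : V)]) := by rw [hspan]; trivial
        rw [Matrix.range_cons, Matrix.range_cons, Matrix.range_empty, Set.union_empty, Set.singleton_union,
          Submodule.mem_span_pair] at hx
        obtain ⟨α, β, h⟩ := hx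
        exact ⟨α, β, h.symm⟩
      rcases hF (Q w) with h5 | h5 | h5
      · exfalso
        apply hw0
        apply hQ
        intro x
        obtain ⟨α, β, rfl⟩ := hrep x
        rw [polar_add_right, polar_smul_right, polar_smul_right, polar_comm Q w z, hzw, polar_self', h5]
        simp
      · left
        refine ⟨w, by rw [h5]; exact h10, ?_⟩
        rw [hzw, h5]
        ring
      · right
        exact ⟨h1, w, h5, hzw, hrep⟩
    · left
      have hd4 : 4 ≤ finrank F V := by
        obtain ⟨k, hk⟩ := hev
        omega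
      obtain ⟨x, hx, hx0⟩ : ∃ x ∈ LinearMap.ker (polarBilin Q z), Q x ≠ 0 := by
        by_contra hcon
        push Not at hcon
        have := finrank_add_le hQ (A := LinearMap.ker (polarBilin Q z)) (B := LinearMap.ker (polarBilin Q z))
          fun a ha b hb => polar_zero_of hcon ha hb
        omega
      have hzx : polar Q z x = 0 := hx
      rcases hF (Q x) with h5 | h5 | h5
      · exact absurd h5 hx0
      · refine ⟨x, hx0, ?_⟩
        rw [hzx, h5]
        ring
      · set A := LinearMap.ker ((polarBilin Q z).prod (polarBilin Q x)) with hA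
        have hA2 := finrank_ker_two (polarBilin Q z) (polarBilin Q x)
        rw [← hA] at hA2
        have hmem : ∀ y, y ∈ A ↔ polar Q z y = 0 ∧ polar Q x y = 0 := by
          intro y
          rw [hA, LinearMap.mem_ker, LinearMap.prod_apply, Prod.mk_eq_zero]
          rfl
        obtain ⟨y, hy, hy0⟩ : ∃ y ∈ A, Q y ≠ 0 := by
          by_contra hcon
          push Not at hcon
          have hxA : x ∉ A := fun h => hx0 (hcon x h)
          have hB : finrank F (A ⊔ Submodule.span F {x} : Submodule F V) = finrank F A + 1 := by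
            have h6 := Submodule.finrank_sup_add_finrank_inf_eq A (Submodule.span F {x})
            have h7 : A ⊓ Submodule.span F {x} = ⊥ := by
              rw [Submodule.eq_bot_iff]
              rintro v ⟨hv1, hv2⟩
              obtain ⟨c, rfl⟩ := Submodule.mem_span_singleton.1 hv2
              by_cases hc : c = 0
              · rw [hc, zero_smul]
              · exfalso
                apply hxA
                have := A.smul_mem c⁻¹ hv1
                rwa [smul_smul, inv_mul_cancel₀ hc, one_smul] at this
            rw [h7, finrank_bot, finrank_span_singleton (fun h => hx0 (by rw [h, QuadraticMap.map_zero]))] at h6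
            omega
          have h8 := finrank_add_le hQ (A := A) (B := A ⊔ Submodule.span F {x}) (by
            intro a ha b hb
            obtain ⟨b₁, hb₁, b₂, hb₂, rfl⟩ := Submodule.mem_sup.1 hb
            obtain ⟨c, rfl⟩ := Submodule.mem_span_singleton.1 hb₂
            rw [polar_add_right, polar_smul_right, polar_zero_of hcon ha hb₁, polar_comm Q a x, ((hmem a).1 ha).2]
            simp)
          omega
        obtain ⟨hzy, hxy⟩ := (hmem y).1 hy
        rcases hF (Q y) with h6 | h6 | h6
        · exact absurd h6 hy0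
        · refine ⟨y, hy0, ?_⟩
          rw [hzy, h6]
          ring
        · have e : Q (x + y) = 1 := by
            rw [Q_add, h5, h6, hxy]
            linear_combination (-1 : F) * h3
          refine ⟨x + y, by rw [e]; exact h10, ?_⟩
          rw [polar_add_right, hzx, hzy, e]
          ring
  · left
    refine ⟨z, by rw [h1]; exact neg_ne_zero.2 h10, ?_⟩
    rw [polar_self', h1]
    linear_combination 2 * h3

end core

end Cfsg.Agent.H911.RC
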