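import Cfsg.Agent.H911.RC.KpThree

/-!
# S3510, triality, characteristic three: the exceptional case (helper911)

`Spl τ z w`, `|F| = 3`, `s` an isometric automorphism of `dia τ` of squarefree order prime to three whose fixed space is
`⟨z, w⟩`: then `z ⋄ x = - x` for `x` in `An h z w` (`L_An`), so `z` is a para-unit.
-/

set_option autoImplicit false

namespace Cfsg.Agent.H911.RC

open Module QuadraticMap Cfsg.Agent.LieClassical.OrthCore Cfsg.Agent.LieClassical.OrthTrans
  Cfsg.Agent.LieClassical.OrthSimple Cfsg.Agent.ClassicalGeometry.OrthAut1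
  Cfsg.Agent.ClassicalGeometry.OrthSemi Cfsg.Agent.H198.Classes
  Cfsg.Agent.LieClassical.QuadForms Cfsg.Agent.H198.ClassesPlus
  Cfsg.Agent.ClassicalGeometry.TrialityOct Cfsg.Agent.ClassicalGeometry.Triality
  Cfsg.Agent.ClassicalGeometry.TrialitySpaces Cfsg.Agent.H198.TriBase Cfsg.Agent.H198.TriAut
  Cfsg.Agent.H198.TriDia Cfsg.Agent.H198.TriTC Cfsg.Agent.H198.TwComp
open Cfsg.Agent.H566.RC (Au Kp)

universe u

variable {F : Type u} [Field F]

/-! ### Small spaces over the field with three elements -/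

theorem dvd_two_of {o n : ℕ} (h : o ∣ 48) (hn : o ∣ n) (hsq : Squarefree n) (hn3 : ¬ 3 ∣ n) : o ∣ 2 := by
  have h4 : ¬ 4 ∣ o := by
    intro h4
    have := hsq 2 (h4.trans hn)
    exact absurd (Nat.isUnit_iff.1 this) (by norm_num)
  have h3 : ¬ 3 ∣ o := fun h3 => hn3 (h3.trans hn)
  have h5 : o ∈ Nat.divisors 48 := Nat.mem_divisors.2 ⟨h, by norm_num⟩
  have h6 : Nat.divisors 48 = {1, 2, 3, 4, 6, 8, 12, 16, 24, 48} := by decide
  rw [h6] at h5
  simp only [Finset.mem_insert, Finset.mem_singleton] at h5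
  rcases h5 with rfl | rfl | rfl | rfl | rfl | rfl | rfl | rfl | rfl | rfl <;> omega

theorem sq_of_small (hF : Nat.card F = 3) {V : Type*} [AddCommGroup V] [Module F V] [FiniteDimensional F V]
    {s : V ≃ₗ[F] V} {n : ℕ} (hn : s ^ n = 1) (hsq : Squarefree n) (hn3 : ¬ 3 ∣ n) {A : Submodule F V}
    (hA : ∀ x ∈ A, s x ∈ A) (hd : finrank F A ≤ 2) : ∀ x ∈ A, s (s x) = x := by
  classical
  have hfin : Finite F := Nat.finite_of_card_ne_zero (by rw [hF]; norm_num)
  have := Fintype.ofFinite F
  have hF' : Fintype.card F = 3 := by rw [← Nat.card_eq_fintype_card, hF]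
  let f : Module.End F A := (s : V →ₗ[F] V).restrict hA
  have hf : ∀ (k : ℕ) (x : A), (((f ^ k) x : A) : V) = (s ^ k) (x : V) := by
    intro k
    induction k with
    | zero => intro x; rfl
    | succ k ih =>
      intro x
      rw [pow_succ, pow_succ, Module.End.mul_apply, LinearEquiv.mul_apply, ih]
      rfl
  have hfn : f ^ n = 1 := by
    apply LinearMap.ext
    intro x
    apply Subtype.ext
    rw [hf, hn]
    rfl
  let g : (Module.End F A)ˣ := Units.ofPowEqOne f n hfn hsq.ne_zero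
  have hgn : g ^ n = 1 := Units.pow_ofPowEqOne hfn hsq.ne_zero
  have hcard : Nat.card (Module.End F A)ˣ ∣ 48 := by
    rw [Nat.card_congr (Units.mapEquiv (LinearMap.toMatrixAlgEquiv (Module.finBasis F A)).toMulEquiv).toEquiv]
    change Nat.card (GL (Fin (finrank F A)) F) ∣ 48
    rw [Matrix.card_GL_field]
    have h2 : finrank F A = 0 ∨ finrank F A = 1 ∨ finrank F A = 2 := by omega
    rcases h2 with h2 | h2 | h2 <;> rw [h2, hF'] <;> simp [Fin.prod_univ_two]
  have ho : orderOf g ∣ 2 := dvd_two_of ((orderOf_dvd_natCard g).trans hcard) (orderOf_dvd_of_pow_eq_one hgn) hsq hn3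
  have hg2 : g ^ 2 = 1 := orderOf_dvd_iff_pow_eq_one.1 ho
  have hf2 : f ^ 2 = 1 := by
    have := congrArg Units.val hg2
    rwa [Units.val_pow_eq_pow_val] at this
  intro x hx
  have h1 := hf 2 ⟨x, hx⟩
  rw [hf2, pow_two, LinearEquiv.mul_apply] at h1
  exact h1.symm

/-! ### The split plane -/

section split

variable {τ : G8 F} (h : Au τ)

include h

theorem dneg_left (u w : V8 F) : dia τ (-u) w = -dia τ u w := (H675.RC.tc_dia h).neg_left u w

theorem dneg_right (u w : V8 F) : dia τ u (-w) = -dia τ u w := (H675.RC.tc_dia h).neg_right u w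

theorem dsub_left (u v w : V8 F) : dia τ (u - v) w = dia τ u w - dia τ v w := by
  rw [sub_eq_add_neg, h.dia_add_left, dneg_left h, ← sub_eq_add_neg]

theorem dsub_right (u v w : V8 F) : dia τ u (v - w) = dia τ u v - dia τ u w := by
  rw [sub_eq_add_neg, h.dia_add_right, dneg_right h, ← sub_eq_add_neg]

theorem dzero_left (u : V8 F) : dia τ 0 u = 0 := (H675.RC.tc_dia h).zero_left u

theorem dzero_right (u : V8 F) : dia τ u 0 = 0 := (H675.RC.tc_dia h).zero_right u

theorem Spl.neg {z w : V8 F} (S : Spl τ z w) : Spl τ z (-w) := by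
  refine ⟨S.qz, ?_, ?_, S.zz, ?_, ?_, ?_⟩
  · rw [QuadraticMap.map_neg, S.qw]
  · rw [polar_neg_right, S.perp, neg_zero]
  · rw [dneg_right h, S.zw]
  · rw [dneg_left h, S.wz]
  · rw [dneg_left h, dneg_right h, neg_neg, S.ww]

/-- the annihilator of `z + w` in `⟨z, w⟩^⊥` -/
def An (z w : V8 F) : Submodule F (V8 F) where
  carrier := {x | polar (plusForm 4 F) z x = 0 ∧ polar (plusForm 4 F) w x = 0 ∧ dia τ (z + w) x = 0}
  add_mem' := by
    rintro x y ⟨h1, h2, h3⟩ ⟨h4, h5, h6⟩
    refine ⟨?_, ?_, ?_⟩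
    · rw [polar_add_right, h1, h4, add_zero]
    · rw [polar_add_right, h2, h5, add_zero]
    · rw [h.dia_add_right, h3, h6, add_zero]
  zero_mem' := ⟨polar_zero_right _ _, polar_zero_right _ _, dzero_right h _⟩
  smul_mem' := by
    rintro c x ⟨h1, h2, h3⟩
    refine ⟨?_, ?_, ?_⟩
    · rw [polar_smul_right, h1, smul_zero]
    · rw [polar_smul_right, h2, smul_zero]
    · rw [h.dia_smul_right, h3, smul_zero]

variable {z w : V8 F}

theorem mem_An {x : V8 F} : x ∈ An h z w ↔
    polar (plusForm 4 F) z x = 0 ∧ polar (plusForm 4 F) w x = 0 ∧ dia τ (z + w) x = 0 := Iff.rfl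

variable (S : Spl τ z w) (h3 : (3 : F) = 0)

omit h in
include h3 in
theorem two_ne : (2 : F) ≠ 0 := by
  intro h2
  have : (1 : F) = 0 := by linear_combination h3 - h2
  exact one_ne_zero this

omit h in
include S in
theorem Spl.pzz : polar (plusForm 4 F) z z = 2 := by rw [polar_self', S.qz, mul_one]

omit h in
include S in
theorem Spl.pww : polar (plusForm 4 F) w w = -2 := by rw [polar_self', S.qw]; ring

omit h in
include S in
theorem Spl.pwz : polar (plusForm 4 F) w z = 0 := by rw [polar_comm, S.perp]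

omit h in
include S h3 in
theorem Spl.ne_zero : z + w ≠ 0 := by
  intro e
  have e1 : polar (plusForm 4 F) z (z + w) = 0 := by rw [e, polar_zero_right]
  rw [polar_add_right, S.pzz, S.perp, add_zero] at e1
  exact two_ne h3 e1

omit h in
include S in
theorem Spl.qu : plusForm 4 F (z + w) = 0 := by
  rw [Q_add, S.qz, S.qw, S.perp]
  ring

include S h3

/-- `An` is totally singular -/
theorem An_sing {x : V8 F} (hx : x ∈ An h z w) : plusForm 4 F x = 0 := by
  have h1 := h.dia_dia' x (z + w)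
  rw [hx.2.2, dzero_right h] at h1
  exact (smul_eq_zero.1 h1.symm).resolve_right (S.ne_zero h3)

theorem An_right {x : V8 F} (hx : x ∈ An h z w) : dia τ x (z - w) = 0 := by
  have h1 := h.lin2 x (z + w) (z + w)
  have h2 : dia τ (z + w) (z + w) = (2 : F) • (z - w) := by
    rw [h.dia_add_left, h.dia_add_right, h.dia_add_right, S.zz, S.zw, S.wz, S.ww]
    module
  have h4 : polar (plusForm 4 F) x (z + w) = 0 := by
    rw [polar_comm, polar_add_left, hx.1, hx.2.1, add_zero]
  rw [hx.2.2, dzero_right h, add_zero, h2, h.dia_smul_right, h4, zero_smul] at h1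
  exact (smul_eq_zero.1 h1).resolve_left (two_ne h3)

theorem An_L {x : V8 F} (hx : x ∈ An h z w) : dia τ z x ∈ An h z w := by
  refine ⟨?_, ?_, ?_⟩
  · rw [← h.assoc, S.zz, hx.1]
  · rw [← h.assoc, S.wz, polar_neg_left, hx.2.1, neg_zero]
  · have h1 := h.lin2 (z + w) z x
    have h2 : dia τ z (z + w) = z - w := by
      rw [h.dia_add_right, S.zz, S.zw, sub_eq_add_neg]
    rw [h2, An_right h S h3 hx, add_zero, polar_add_left, hx.1, hx.2.1, add_zero, zero_smul] at h1
    exact h1

omit h3 in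
theorem L_cube {x : V8 F} (hx : polar (plusForm 4 F) z x = 0) : dia τ z (dia τ z (dia τ z x)) = -x := by
  have h1 := h.lin2 z z x
  rw [S.zz, hx, zero_smul] at h1
  rw [eq_neg_of_add_eq_zero_left h1, dneg_right h, h.dia_dia', S.qz, one_smul]

/-- `dim An ≤ 3` -/
theorem An_finrank (hG : Good (plusForm 4 F)) : finrank F (An h z w) ≤ 3 := by
  have hu : z + w ∉ An h z w := by
    intro hu
    have e1 := hu.1
    rw [polar_add_right, S.pzz, S.perp, add_zero] at e1
    exact two_ne h3 e1
  obtain ⟨A, hA⟩ : ∃ A : Submodule F (V8 F), A = An h z w ⊔ Submodule.span F {z + w} := ⟨_, rfl⟩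
  have hts : ∀ a ∈ A, plusForm 4 F a = 0 := by
    intro a ha
    rw [hA] at ha
    obtain ⟨x, hx, y, hy, rfl⟩ := Submodule.mem_sup.1 ha
    obtain ⟨c, rfl⟩ := Submodule.mem_span_singleton.1 hy
    rw [Q_add, An_sing h S h3 hx, QuadraticMap.map_smul, S.qu, polar_smul_right, polar_add_right,
      polar_comm _ x z, polar_comm _ x w, hx.1, hx.2.1]
    simp
  have h1 : finrank F A + finrank F A ≤ finrank F (V8 F) :=
    finrank_add_le hG.nondeg (A := A) (B := A) fun a ha b hb => polar_zero_of hts ha hb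
  have h2 : finrank F (V8 F) = 8 := by
    rw [Module.finrank_fintype_fun_eq_card, Fintype.card_sum, Fintype.card_fin]
  have h7 : An h z w ⊓ Submodule.span F {z + w} = ⊥ := by
    rw [Submodule.eq_bot_iff]
    rintro v ⟨hv1, hv2⟩
    obtain ⟨c, rfl⟩ := Submodule.mem_span_singleton.1 hv2
    by_cases hc : c = 0
    · rw [hc, zero_smul]
    · exfalso
      apply hu
      have := (An h z w).smul_mem c⁻¹ hv1
      rwa [smul_smul, inv_mul_cancel₀ hc, one_smul] at this
  have h4 : finrank F A = finrank F (An h z w) + 1 := by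
    have h5 := Submodule.finrank_sup_add_finrank_inf_eq (An h z w) (Submodule.span F {z + w})
    rw [h7, finrank_bot, add_zero] at h5
    rw [hA, h5, finrank_span_singleton (S.ne_zero h3)]
  omega

omit h3 in
/-- `⟨z, w⟩^⊥` is a bimodule -/
theorem W_left {x : V8 F} (h1 : polar (plusForm 4 F) z x = 0) (h2 : polar (plusForm 4 F) w x = 0) (α β : F) :
    polar (plusForm 4 F) z (dia τ (α • z + β • w) x) = 0 ∧ polar (plusForm 4 F) w (dia τ (α • z + β • w) x) = 0 := by
  constructor
  · rw [← h.assoc, h.dia_add_right, h.dia_smul_right, h.dia_smul_right, S.zz, S.zw, polar_add_left,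
      polar_smul_left, polar_smul_left, polar_neg_left, h1, h2]
    simp
  · rw [← h.assoc, h.dia_add_right, h.dia_smul_right, h.dia_smul_right, S.wz, S.ww, polar_add_left,
      polar_smul_left, polar_smul_left, polar_neg_left, h1, h2]
    simp

omit h3 in
theorem W_right {x : V8 F} (h1 : polar (plusForm 4 F) z x = 0) (h2 : polar (plusForm 4 F) w x = 0) (α β : F) :
    polar (plusForm 4 F) z (dia τ x (α • z + β • w)) = 0 ∧ polar (plusForm 4 F) w (dia τ x (α • z + β • w)) = 0 := by
  have h1' : polar (plusForm 4 F) x z = 0 := by rw [polar_comm, h1]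
  have h2' : polar (plusForm 4 F) x w = 0 := by rw [polar_comm, h2]
  constructor
  · rw [polar_comm, h.assoc, h.dia_add_left, h.dia_smul_left, h.dia_smul_left, S.zz, S.wz, polar_add_right,
      polar_smul_right, polar_smul_right, polar_neg_right, h1', h2']
    simp
  · rw [polar_comm, h.assoc, h.dia_add_left, h.dia_smul_left, h.dia_smul_left, S.zw, S.ww, polar_add_right,
      polar_smul_right, polar_smul_right, polar_neg_right, h1', h2']
    simp

/-- decomposition of `⟨z, w⟩^⊥` -/
theorem W_dec {x : V8 F} (h1 : polar (plusForm 4 F) z x = 0) (h2 : polar (plusForm 4 F) w x = 0) :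
    ∃ x₁ ∈ An h z w, ∃ y₁ ∈ An h z (-w), x = x₁ + y₁ := by
  have e := h.lin1 (z + w) x (z - w)
  have e1 : polar (plusForm 4 F) (z + w) (z - w) = 1 := by
    rw [polar_add_left, polar_sub_right, polar_sub_right, S.pzz, S.perp, S.pwz, S.pww]
    linear_combination h3
  rw [e1, one_smul] at e
  have hzw : z + w = (1 : F) • z + (1 : F) • w := by rw [one_smul, one_smul]
  have hzw' : z - w = (1 : F) • z + (-1 : F) • w := by rw [one_smul, neg_one_smul, sub_eq_add_neg]
  refine ⟨dia τ (dia τ (z - w) x) (z + w), ⟨?_, ?_, ?_⟩, dia τ (dia τ (z + w) x) (z - w), ⟨?_, ?_, ?_⟩, ?_⟩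
  · rw [hzw, hzw']
    exact (W_right h S (W_left h S h1 h2 _ _).1 (W_left h S h1 h2 _ _).2 _ _).1
  · rw [hzw, hzw']
    exact (W_right h S (W_left h S h1 h2 _ _).1 (W_left h S h1 h2 _ _).2 _ _).2
  · rw [h.dia_dia', S.qu, zero_smul]
  · rw [hzw, hzw']
    exact (W_right h S (W_left h S h1 h2 _ _).1 (W_left h S h1 h2 _ _).2 _ _).1
  · rw [polar_neg_left, hzw, hzw', (W_right h S (W_left h S h1 h2 _ _).1 (W_left h S h1 h2 _ _).2 _ _).2, neg_zero]
  · rw [← sub_eq_add_neg, h.dia_dia', sub_eq_add_neg, (Spl.neg h S).qu, zero_smul]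
  · exact e.symm.trans (add_comm _ _)

omit h S h3 in
/-- powers -/
theorem pow_two_fix {s : V8 F ≃ₗ[F] V8 F} {x : V8 F} (hx : s (s x) = x) (l : ℕ) :
    (s ^ (2 * l)) x = x ∧ (s ^ (2 * l + 1)) x = s x := by
  have h1 : (s ^ (2 * l)) x = x := by
    induction l with
    | zero => rfl
    | succ l ih =>
      have e : s ^ (2 * (l + 1)) = s ^ (2 * l) * (s * s) := by
        rw [mul_add, mul_one, pow_add, pow_two s]
      rw [e, LinearEquiv.mul_apply, LinearEquiv.mul_apply, hx, ih]
  refine ⟨h1, ?_⟩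
  rw [pow_succ', LinearEquiv.mul_apply, h1]

end split

/-- **in the exceptional case `L_z = -1` on the annihilator** -/
theorem L_An (hG : Good (plusForm 4 F)) (hF : Nat.card F = 3) (h3 : (3 : F) = 0) {τ : G8 F} (h : Au τ) {z w : V8 F}
    (S : Spl τ z w) {s : V8 F ≃ₗ[F] V8 F} (hs : s ∈ O (plusForm 4 F))
    (hm : ∀ u w, s (dia τ u w) = dia τ (s u) (s w)) {n : ℕ} (hn : s ^ n = 1) (hsq : Squarefree n) (hn3 : ¬ 3 ∣ n)
    (hz : s z = z) (hw : s w = w) (hfix : ∀ x, s x = x → ∃ α β : F, x = α • z + β • w) :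
    ∀ x ∈ An h z w, dia τ z x = -x := by
  have h2 := two_ne h3
  have hpol : ∀ g ∈ O (plusForm 4 F), ∀ x y, polar (plusForm 4 F) (g x) (g y) = polar (plusForm 4 F) x y := by
    intro g hg x y
    have hg' : ∀ v, plusForm 4 F (g v) = plusForm 4 F v := hg
    rw [polar, ← map_add, hg', hg', hg', polar]
  -- no fixed vectors
  have hfix0 : ∀ x, polar (plusForm 4 F) z x = 0 → polar (plusForm 4 F) w x = 0 → s x = x → x = 0 := by
    intro x h1 h4 h5
    obtain ⟨α, β, rfl⟩ := hfix x h5
    rw [polar_add_right, polar_smul_right, polar_smul_right, S.pzz, S.perp, smul_zero, add_zero] at h1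
    rw [polar_add_right, polar_smul_right, polar_smul_right, S.pwz, S.pww, smul_zero, zero_add] at h4
    have e1 : α = 0 := (mul_eq_zero.1 h1).resolve_right h2
    have e2 : β = 0 := (mul_eq_zero.1 h4).resolve_right (neg_ne_zero.2 h2)
    rw [e1, e2, zero_smul, zero_smul, add_zero]
  -- invariance
  have hinv : ∀ {w' : V8 F}, s w' = w' → ∀ x ∈ An h z w', s x ∈ An h z w' := by
    intro w' hw' x hx
    refine ⟨?_, ?_, ?_⟩
    · have := hpol s hs z x
      rw [hz] at this
      rw [this, hx.1]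
    · have := hpol s hs w' x
      rw [hw'] at this
      rw [this, hx.2.1]
    · have := hm (z + w') x
      rw [hx.2.2, map_zero, map_add, hz, hw'] at this
      exact this.symm
  have hinvk : ∀ {w' : V8 F}, s w' = w' → ∀ (k : ℕ), ∀ x ∈ An h z w', (s ^ k) x ∈ An h z w' := by
    intro w' hw' k
    induction k with
    | zero => intro x hx; exact hx
    | succ k ih =>
      intro x hx
      rw [pow_succ', LinearEquiv.mul_apply]
      exact hinv hw' _ (ih x hx)
  by_contra hcon
  push Not at hcon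
  obtain ⟨x₀, hx₀, hne⟩ := hcon
  -- `f = L + 1`
  let f : V8 F →ₗ[F] V8 F :=
    { toFun := fun x => dia τ z x + x
      map_add' := fun x y => by rw [h.dia_add_right]; abel
      map_smul' := fun c x => by rw [h.dia_smul_right, RingHom.id_apply, smul_add] }
  have hf : ∀ x, f x = dia τ z x + x := fun _ => rfl
  have hfA : ∀ x ∈ An h z w, f x ∈ An h z w := fun x hx => (An h z w).add_mem (An_L h S h3 hx) hx
  have hf3 : ∀ x ∈ An h z w, f (f (f x)) = 0 := by
    intro x hx
    rw [hf x, hf, hf]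
    simp only [h.dia_add_right]
    rw [L_cube h S hx.1]
    have e : -x + dia τ z (dia τ z x) + (dia τ z (dia τ z x) + dia τ z x) + (dia τ z (dia τ z x) + dia τ z x +
        (dia τ z x + x)) = (3 : F) • (dia τ z (dia τ z x) + dia τ z x) := by
      module
    rw [e, h3, zero_smul]
  set X₁ := An h z w ⊓ LinearMap.ker f with hX₁
  have hf0 : f x₀ ≠ 0 := fun e => hne (eq_neg_of_add_eq_zero_left e)
  obtain ⟨x₁, hx₁, hx₁0⟩ : ∃ x ∈ X₁, x ≠ 0 := by
    by_cases e : f (f x₀) = 0
    · exact ⟨f x₀, ⟨hfA _ hx₀, e⟩, hf0⟩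
    · exact ⟨f (f x₀), ⟨hfA _ (hfA _ hx₀), hf3 _ hx₀⟩, e⟩
  have hlt : finrank F X₁ < finrank F (An h z w) := by
    apply Submodule.finrank_lt_finrank_of_lt
    refine lt_of_le_of_ne inf_le_left fun e => hf0 ?_
    have : x₀ ∈ X₁ := by rw [e]; exact hx₀
    exact this.2
  have h3d := An_finrank h S h3 hG
  have hX₁s : ∀ x ∈ X₁, s x ∈ X₁ := by
    rintro x ⟨hx, hx'⟩
    refine ⟨hinv hw x hx, ?_⟩
    have e : f x = 0 := hx'
    have e1 := congrArg s e
    rw [hf, map_add, hm, hz, map_zero] at e1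
    exact e1
  have hX₁2 := sq_of_small hF hn hsq hn3 hX₁s (by omega)
  by_cases hpar : Even n
  swap
  · -- `n` odd
    rw [Nat.not_even_iff_odd] at hpar
    obtain ⟨l, rfl⟩ := hpar
    have e1 := (pow_two_fix (hX₁2 x₁ hx₁) l).2
    rw [hn] at e1
    exact hx₁0 (hfix0 x₁ hx₁.1.1 hx₁.1.2.1 e1.symm)
  obtain ⟨k, hk⟩ := hpar
  have hk2 : n = 2 * k := by omega
  have hkodd : ¬ 2 ∣ k := by
    intro h4
    have h5 : 2 * 2 ∣ n := by
      rw [hk2]
      exact Nat.mul_dvd_mul_left 2 h4
    exact absurd (Nat.isUnit_iff.1 (hsq 2 h5)) (by norm_num)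
  obtain ⟨l, hl⟩ : ∃ l, k = 2 * l + 1 := ⟨k / 2, by omega⟩
  set m := s ^ k with hmk
  have hmO : m ∈ O (plusForm 4 F) := (O (plusForm 4 F)).pow_mem hs k
  have hmm : ∀ x, m (m x) = x := by
    intro x
    have e : m * m = 1 := by rw [hmk, ← pow_add, ← two_mul, ← hk2, hn]
    rw [← LinearEquiv.mul_apply, e]
    rfl
  have hms : ∀ x, m (s x) = s (m x) := by
    intro x
    rw [← LinearEquiv.mul_apply, ← LinearEquiv.mul_apply, hmk, ← pow_succ, ← pow_succ']
  have hmz : m z = z := by
    have : ∀ j : ℕ, (s ^ j) z = z := by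
      intro j
      induction j with
      | zero => rfl
      | succ j ih => rw [pow_succ, LinearEquiv.mul_apply, hz, ih]
    exact this k
  have hmw : m w = w := by
    have : ∀ j : ℕ, (s ^ j) w = w := by
      intro j
      induction j with
      | zero => rfl
      | succ j ih => rw [pow_succ, LinearEquiv.mul_apply, hw, ih]
    exact this k
  have hsm : ∀ {x}, s (s x) = x → m x = s x := by
    intro x hx
    rw [hmk, hl]
    exact (pow_two_fix hx l).2
  -- `m = -1` on `X₁`
  have hX₁m : ∀ x ∈ X₁, m x = -x := by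
    intro x hx
    have e1 : x + s x ∈ X₁ := X₁.add_mem hx (hX₁s x hx)
    have e2 : s (x + s x) = x + s x := by rw [map_add, hX₁2 x hx, add_comm]
    have e3 := hfix0 _ e1.1.1 e1.1.2.1 e2
    rw [hsm (hX₁2 x hx)]
    exact (eq_neg_of_add_eq_zero_right e3)
  -- the fixed vectors of `m` in `An`
  set X₂ := An h z w ⊓ LinearMap.ker ((m : V8 F →ₗ[F] V8 F) - 1) with hX₂
  have hmem₂ : ∀ x, x ∈ X₂ ↔ x ∈ An h z w ∧ m x = x := by
    intro x
    rw [hX₂, Submodule.mem_inf, LinearMap.mem_ker, LinearMap.sub_apply, sub_eq_zero]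
    rfl
  have hd12 : finrank F X₁ + finrank F X₂ ≤ finrank F (An h z w) := by
    have h4 := Submodule.finrank_sup_add_finrank_inf_eq X₁ X₂
    have h5 : X₁ ⊓ X₂ = ⊥ := by
      rw [Submodule.eq_bot_iff]
      rintro x ⟨hx, hx'⟩
      have e1 := hX₁m x hx
      rw [((hmem₂ x).1 hx').2] at e1
      have e2 : (2 : F) • x = 0 := by
        rw [two_smul]
        nth_rw 1 [e1]
        exact neg_add_cancel x
      exact (smul_eq_zero.1 e2).resolve_left h2
    rw [h5, finrank_bot, add_zero] at h4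
    rw [← h4]
    exact Submodule.finrank_mono (sup_le inf_le_left inf_le_left)
  have hpos : 0 < finrank F X₁ := by
    have : Nontrivial X₁ := ⟨⟨⟨x₁, hx₁⟩, 0, fun e => hx₁0 (congrArg Subtype.val e)⟩⟩
    exact finrank_pos
  have hX₂s : ∀ x ∈ X₂, s x ∈ X₂ := by
    intro x hx
    rw [hmem₂] at hx ⊢
    exact ⟨hinv hw x hx.1, by rw [hms, hx.2]⟩
  have hX₂2 := sq_of_small hF hn hsq hn3 hX₂s (by omega)
  have hX₂0 : ∀ x ∈ X₂, x = 0 := by
    intro x hx
    have e1 := hsm (hX₂2 x hx)
    have hx' := (hmem₂ x).1 hx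
    rw [hx'.2] at e1
    exact hfix0 x hx'.1.1 hx'.1.2.1 e1.symm
  have hAm : ∀ x ∈ An h z w, m x = -x := by
    intro x hx
    have e1 : x + m x ∈ X₂ := by
      rw [hmem₂]
      refine ⟨(An h z w).add_mem hx (hinvk hw k x hx), ?_⟩
      rw [map_add, hmm, add_comm]
    exact eq_neg_of_add_eq_zero_right (hX₂0 _ e1)
  have hsw' : s (-w) = -w := by rw [map_neg, hw]
  have Sn := Spl.neg h S
  -- decomposition of `V`
  have hdec : ∀ v : V8 F, ∃ (α β : F) (x : V8 F), v = α • z + β • w + x ∧ polar (plusForm 4 F) z x = 0 ∧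
      polar (plusForm 4 F) w x = 0 := by
    intro v
    refine ⟨polar (plusForm 4 F) z v / 2, -(polar (plusForm 4 F) w v / 2),
      v - ((polar (plusForm 4 F) z v / 2) • z + (-(polar (plusForm 4 F) w v / 2)) • w), by abel, ?_, ?_⟩
    · rw [polar_sub_right, polar_add_right, polar_smul_right, polar_smul_right, S.pzz, S.perp, smul_eq_mul, smul_eq_mul]
      field_simp
      ring
    · rw [polar_sub_right, polar_add_right, polar_smul_right, polar_smul_right, S.pwz, S.pww, smul_eq_mul, smul_eq_mul]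
      field_simp
      ring
  -- `m = -1` on the other annihilator
  have hBm : ∀ y ∈ An h z (-w), m y = -y := by
    intro y hy
    have e0 : y + m y = 0 := by
      apply hG.nondeg
      intro v
      have hc : y + m y ∈ An h z (-w) := (An h z (-w)).add_mem hy (hinvk hsw' k y hy)
      obtain ⟨α, β, x, rfl, hx1, hx2⟩ := hdec v
      obtain ⟨x₂, hx₂, y₂, hy₂, rfl⟩ := W_dec h S h3 hx1 hx2
      have e1 : polar (plusForm 4 F) (y + m y) x₂ = 0 := by
        rw [polar_add_left]
        have e2 := hpol m hmO (m y) x₂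
        rw [hmm, hAm x₂ hx₂, polar_neg_right] at e2
        rw [← e2, add_neg_cancel]
      have e3 : polar (plusForm 4 F) (y + m y) y₂ = 0 :=
        polar_zero_of (fun a ha => An_sing h Sn h3 ha) hc hy₂
      have e4 : polar (plusForm 4 F) (y + m y) z = 0 := by rw [polar_comm]; exact hc.1
      have e5 : polar (plusForm 4 F) (y + m y) w = 0 := by
        rw [polar_comm]
        have := hc.2.1
        rw [polar_neg_left, neg_eq_zero] at this
        exact this
      rw [polar_add_right, polar_add_right, polar_add_right, polar_smul_right, polar_smul_right, e1, e3, e4, e5]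
      simp
    exact eq_neg_of_add_eq_zero_right e0
  have hWm : ∀ x, polar (plusForm 4 F) z x = 0 → polar (plusForm 4 F) w x = 0 → m x = -x := by
    intro x h1 h4
    obtain ⟨x₂, hx₂, y₂, hy₂, rfl⟩ := W_dec h S h3 h1 h4
    rw [map_add, hAm x₂ hx₂, hBm y₂ hy₂, neg_add]
  have hmm' : ∀ u v, m (dia τ u v) = dia τ (m u) (m v) := by
    have key : ∀ (j : ℕ) (u v : V8 F), (s ^ j) (dia τ u v) = dia τ ((s ^ j) u) ((s ^ j) v) := by
      intro j
      induction j with
      | zero => intro u v; rfl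
      | succ j ih =>
        intro u v
        rw [pow_succ, LinearEquiv.mul_apply, LinearEquiv.mul_apply, LinearEquiv.mul_apply, hm, ih]
    exact key k
  -- dimension
  set W := LinearMap.ker ((polarBilin (plusForm 4 F) z).prod (polarBilin (plusForm 4 F) w)) with hW
  have hWmem : ∀ x, x ∈ W ↔ polar (plusForm 4 F) z x = 0 ∧ polar (plusForm 4 F) w x = 0 := by
    intro x
    rw [hW, LinearMap.mem_ker, LinearMap.prod_apply, Prod.mk_eq_zero]
    rfl
  have h8 : finrank F (V8 F) = 8 := by
    rw [Module.finrank_fintype_fun_eq_card, Fintype.card_sum, Fintype.card_fin]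
  have hW6 : finrank F (V8 F) ≤ finrank F W + 2 :=
    finrank_ker_two (polarBilin (plusForm 4 F) z) (polarBilin (plusForm 4 F) w)
  obtain ⟨a, haW, ha⟩ : ∃ a ∈ W, plusForm 4 F a ≠ 0 := by
    by_contra hcon
    push Not at hcon
    have h9 : finrank F W + finrank F W ≤ finrank F (V8 F) :=
      finrank_add_le hG.nondeg (A := W) (B := W) fun a ha b hb => polar_zero_of hcon ha hb
    omega
  have hK : ∀ x ∈ W, dia τ a x ∈ Submodule.span F {z, w} := by
    intro x hx
    have e1 : m (dia τ a x) = dia τ a x := by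
      rw [hmm', hWm a ((hWmem a).1 haW).1 ((hWmem a).1 haW).2, hWm x ((hWmem x).1 hx).1 ((hWmem x).1 hx).2,
        dneg_left h, dneg_right h, neg_neg]
    obtain ⟨α, β, y, hy, hy1, hy2⟩ := hdec (dia τ a x)
    rw [hy, map_add, map_add, map_smul, map_smul, hmz, hmw, hWm y hy1 hy2] at e1
    have e2 := add_left_cancel e1
    have e3 : (2 : F) • y = 0 := by
      rw [two_smul]
      nth_rw 1 [← e2]
      exact neg_add_cancel y
    rw [hy, (smul_eq_zero.1 e3).resolve_left h2, add_zero]
    exact Submodule.mem_span_pair.2 ⟨α, β, rfl⟩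
  let φ : W →ₗ[F] Submodule.span F {z, w} :=
    { toFun := fun x => ⟨dia τ a x, hK x x.2⟩
      map_add' := fun x y => Subtype.ext (h.dia_add_right _ _ _)
      map_smul' := fun c x => Subtype.ext (h.dia_smul_right _ _ _) }
  have hφ : Function.Injective φ := by
    rw [injective_iff_map_eq_zero]
    intro x hx
    have e1 : dia τ a x = 0 := congrArg Subtype.val hx
    have e2 := h.dia_dia a x
    rw [e1, dzero_left h] at e2
    exact Subtype.ext ((smul_eq_zero.1 e2.symm).resolve_left ha)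
  have h10 := LinearMap.finrank_le_finrank_of_injective hφ
  have h11 : finrank F (Submodule.span F {z, w}) ≤ 2 := by
    classical
    have := finrank_span_finset_le_card (R := F) ({z, w} : Finset (V8 F))
    rw [Finset.coe_pair] at this
    exact this.trans Finset.card_le_two
  omega

end Cfsg.Agent.H911.RC
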