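import Cfsg.Agent.H864.RC.DefG
import Cfsg.Agent.H911.RC.CharThree
import Cfsg.Agent.LieClassical.OrthFinite

/-!
# S3510, triality type iii, box G: (P2c), (P2d) (helper911)

* `dim_c` : the common fixed space has dimension at most two;
* `dim_d` : the components with `t.1 ≠ 2`, `t.2 ≠ 2` are sums of two dual totally singular planes.
-/

set_option autoImplicit false
open Cfsg

namespace Cfsg.Agent.H911.RC

open Module QuadraticMap MulAction
open Cfsg.Agent.LieClassical.OrthCore Cfsg.Agent.LieClassical.OrthTrans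
open Cfsg.Agent.LieClassical.OrthSimple Cfsg.Agent.ClassicalGeometry.OrthSemi
open Cfsg.Agent.ClassicalGeometry.OrthAut1 Cfsg.Agent.H106.RC Cfsg.Agent.H93.RC Cfsg.Agent.H566.RC
open Cfsg.Agent.LieClassical.QuadForms Cfsg.Agent.ClassicalGeometry.TrialityOct
open Cfsg.Agent.ClassicalGeometry.Triality Cfsg.Agent.ClassicalGeometry.TrialitySpaces
open Cfsg.Agent.H198.TriBase Cfsg.Agent.H198.TriAut Cfsg.Agent.H206.Balance Cfsg.Agent.H198.TriDia
open Cfsg.Agent.H198.TwComp Cfsg.Agent.H198 Cfsg.Agent.H864.RC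

section gen

variable {F V : Type*} [Field F] [AddCommGroup V] [Module F V] {Q : QuadraticForm F V}

theorem eq_of_sq {s : V ≃ₗ[F] V} {n : ℕ} (hn : s ^ n = 1) (hn0 : (n : F) ≠ 0) {v : V}
    (hv : s (s v) = (2 : F) • s v - v) : s v = v := by
  have key : ∀ k : ℕ, (s ^ k) v = v + (k : F) • (s v - v) := by
    intro k
    induction k with
    | zero => simp
    | succ k ih =>
      rw [pow_succ', LinearEquiv.mul_apply, ih, map_add, map_smul, map_sub, hv]
      push_cast
      module
  have h1 := key n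
  rw [hn] at h1
  have h2 : (n : F) • (s v - v) = 0 := by
    have : v = v + (n : F) • (s v - v) := h1
    exact left_eq_add.1 this
  exact sub_eq_zero.1 ((smul_eq_zero.1 h2).resolve_left hn0)

theorem siegel_pow {u w : V} (hu : Q u = 0) (hw : polar Q u w = 0) (k : ℕ) :
    ∃ hw' : polar Q u ((k : F) • w) = 0, siegel Q u w hu hw ^ k = siegel Q u ((k : F) • w) hu hw' := by
  have hall : ∀ c : F, polar Q u (c • w) = 0 := fun c => by rw [polar_smul_right, hw, smul_zero]
  refine ⟨hall _, ?_⟩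
  induction k with
  | zero =>
    rw [pow_zero]
    ext v
    rw [siegel_apply]
    simp
  | succ k ih =>
    have h1 : polar Q u ((k : F) • w + w) = 0 := by rw [polar_add_right, hall, hw, add_zero]
    rw [pow_succ, ih, siegel_mul hu (hall _) hw h1]
    apply siegel_congr hu _ hu _ rfl
    push_cast
    rw [add_smul, one_smul]

/-- eigenvectors of an element of order prime to the characteristic, exponent `|F| - 1` -/
theorem exists_eigen [Finite F] {s : V ≃ₗ[F] V} (hq : s ^ (Nat.card F - 1) = 1) {U : Submodule F V}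
    (hU : ∀ v ∈ U, s v ∈ U) (h0 : U ≠ ⊥) : ∃ (a : F) (u : V), u ∈ U ∧ u ≠ 0 ∧ s u = a • u := by
  classical
  have := Fintype.ofFinite F
  by_contra hcon
  push Not at hcon
  obtain ⟨v, hv, hv0⟩ := Submodule.exists_mem_ne_zero_of_ne_bot h0
  let S : Module.End F V := (s : V →ₗ[F] V)
  have key : ∀ A : Finset F, Polynomial.aeval S (∏ a ∈ A, (Polynomial.X - Polynomial.C a)) v ∈ U ∧
      Polynomial.aeval S (∏ a ∈ A, (Polynomial.X - Polynomial.C a)) v ≠ 0 := by
    intro A
    induction A using Finset.induction_on with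
    | empty => simpa using ⟨hv, hv0⟩
    | insert a A ha ih =>
      obtain ⟨h1, h2⟩ := ih
      rw [Finset.prod_insert ha, map_mul, Module.End.mul_apply]
      set x := Polynomial.aeval S (∏ a ∈ A, (Polynomial.X - Polynomial.C a)) v with hx
      have e : Polynomial.aeval S (Polynomial.X - Polynomial.C a) x = s x - a • x := by
        rw [map_sub, Polynomial.aeval_X, Polynomial.aeval_C, LinearMap.sub_apply, Module.algebraMap_end_apply]
        rfl
      rw [e]
      exact ⟨U.sub_mem (hU _ h1) (U.smul_mem _ h1), fun h3 => hcon a x h1 h2 (sub_eq_zero.1 h3)⟩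
  have h1 : ∏ a : F, (Polynomial.X - Polynomial.C a) = (Polynomial.X ^ Fintype.card F - Polynomial.X : Polynomial F) := by
    have hmon : (Polynomial.X ^ Fintype.card F - Polynomial.X : Polynomial F).Monic := by
      apply Polynomial.monic_X_pow_sub
      rw [Polynomial.degree_X]
      exact_mod_cast Fintype.one_lt_card
    have h2 := Polynomial.prod_multiset_X_sub_C_of_monic_of_roots_card_eq hmon (by
      rw [FiniteField.roots_X_pow_card_sub_X, FiniteField.X_pow_card_sub_X_natDegree_eq F Fintype.one_lt_card]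
      rfl)
    rw [FiniteField.roots_X_pow_card_sub_X] at h2
    exact h2
  have h2 := (key Finset.univ).2
  apply h2
  rw [h1, map_sub, map_pow, Polynomial.aeval_X, LinearMap.sub_apply, sub_eq_zero]
  have h3 : ∀ (k : ℕ) (x : V), (S ^ k) x = (s ^ k) x := by
    intro k
    induction k with
    | zero => intro x; rfl
    | succ k ih =>
      intro x
      rw [pow_succ, pow_succ, Module.End.mul_apply, LinearEquiv.mul_apply, ih]
      rfl
  have h4 : s ^ Fintype.card F = s := by
    have h5 : Fintype.card F = Nat.card F - 1 + 1 := by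
      have : 1 < Fintype.card F := Fintype.one_lt_card
      rw [Nat.card_eq_fintype_card]
      omega
    rw [h5, pow_succ, hq, one_mul]
  rw [h3, h4]
  rfl

end gen

variable {F : Type} [Field F]

theorem mem_Vt {s1 s2 : V8 F ≃ₗ[F] V8 F} {t : F × F} {v : V8 F} :
    v ∈ Vt s1 s2 t ↔ s1 v + s1⁻¹ v = t.1 • v ∧ s2 v + s2⁻¹ v = t.2 • v := by
  rw [Vt, Submodule.mem_inf, Module.End.mem_eigenspace_iff, Module.End.mem_eigenspace_iff]
  rfl

theorem quad_of {s : V8 F ≃ₗ[F] V8 F} {c : F} {v : V8 F} (h : s v + s⁻¹ v = c • v) : s (s v) = c • s v - v := by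
  have h1 := congrArg s h
  rw [map_add, map_smul] at h1
  have h2 : s (s⁻¹ v) = v := s.apply_symm_apply v
  rw [h2] at h1
  rw [← h1, add_sub_cancel_right]

theorem Vt_map {s1 s2 c : V8 F ≃ₗ[F] V8 F} (h1 : c * s1 = s1 * c) (h2 : c * s2 = s2 * c) {t : F × F} {v : V8 F}
    (hv : v ∈ Vt s1 s2 t) : c v ∈ Vt s1 s2 t := by
  rw [mem_Vt] at hv ⊢
  have e1 : ∀ {s : V8 F ≃ₗ[F] V8 F}, c * s = s * c → ∀ x, s (c x) = c (s x) ∧ s⁻¹ (c x) = c (s⁻¹ x) := by
    intro s hs x
    have h3 : ∀ x, s (c x) = c (s x) := fun x => by rw [← LinearEquiv.mul_apply, ← hs]; rfl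
    refine ⟨h3 x, ?_⟩
    apply s.injective
    rw [h3]
    have h4 : ∀ y, s (s⁻¹ y) = y := fun y => s.apply_symm_apply y
    rw [h4, h4]
  rw [(e1 h1 v).1, (e1 h1 v).2, (e1 h2 v).1, (e1 h2 v).2, ← map_add, ← map_add, hv.1, hv.2, map_smul, map_smul]
  exact ⟨rfl, rfl⟩

section gb

variable [Finite F] {p : ℕ} [CharP F p] {s1 s2 : V8 F ≃ₗ[F] V8 F}

theorem card_zero : ((Nat.card F : ℕ) : F) = 0 := by
  have := Fintype.ofFinite F
  rw [Nat.card_eq_fintype_card]
  exact FiniteField.cast_card_eq_zero F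

/-- (P2c) -/
theorem dim_c (h : GB p s1 s2) : finrank F (Vt s1 s2 (2, 2)) ≤ 2 := by
  by_contra hcon
  have h3 : 3 ≤ finrank F (Vt s1 s2 (2, 2)) := by omega
  have hpos : 1 ≤ Nat.card F := Nat.card_pos
  have hfix : ∀ v ∈ Vt s1 s2 (2, 2), s1 v = v ∧ s2 v = v := by
    intro v hv
    rw [mem_Vt] at hv
    refine ⟨eq_of_sq h.q1 ?_ (quad_of hv.1), eq_of_sq h.q2 ?_ (quad_of hv.2)⟩
    · rw [Nat.cast_sub hpos, card_zero, zero_sub, Nat.cast_one]
      exact neg_ne_zero.2 one_ne_zero
    · rw [Nat.cast_add, card_zero, zero_add, Nat.cast_one]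
      exact one_ne_zero
  obtain ⟨e, he, he0, hQe⟩ := LieClassical.OrthFinite.exists_sing_mem (Q := plusForm 4 F) (Vt s1 s2 (2, 2)) h3
  obtain ⟨w, hwm, hw, hwe⟩ : ∃ w ∈ Vt s1 s2 (2, 2), polar (plusForm 4 F) e w = 0 ∧ w ∉ Submodule.span F {e} := by
    by_contra hno
    push Not at hno
    have h4 := finrank_ker_one ((polarBilin (plusForm 4 F) e).comp (Vt s1 s2 (2, 2)).subtype)
    set K := LinearMap.ker ((polarBilin (plusForm 4 F) e).comp (Vt s1 s2 (2, 2)).subtype) with hK
    have h5 : finrank F K ≤ finrank F (Submodule.span F {e}) := by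
      let φ : K →ₗ[F] Submodule.span F {e} :=
        LinearMap.codRestrict _ ((Vt s1 s2 (2, 2)).subtype.comp K.subtype) (fun x => hno _ x.1.2 x.2)
      apply LinearMap.finrank_le_finrank_of_injective (f := φ)
      intro x y hxy
      apply Subtype.ext
      apply Subtype.ext
      exact congrArg (fun z : Submodule.span F {e} => (z : V8 F)) hxy
    rw [finrank_span_singleton he0] at h5
    omega
  set c := siegel (plusForm 4 F) e w hQe hw with hc
  have hcomm : ∀ s : V8 F ≃ₗ[F] V8 F, s ∈ E (plusForm 4 F) → s e = e → s w = w → c * s = s * c := by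
    intro s hs hse hsw
    have h4 : plusForm 4 F (s e) = 0 := by rw [hse, hQe]
    have h5 : polar (plusForm 4 F) (s e) (s w) = 0 := by rw [hse, hsw, hw]
    have h6 := siegel_conj (E_le_O hs) hQe hw h4 h5
    rw [siegel_congr h4 h5 hQe hw hse hsw, mul_inv_eq_iff_eq_mul] at h6
    exact h6.symm
  have hc1 := h.hC c (siegel_mem_E hQe hw) (hcomm s1 h.m1 (hfix e he).1 (hfix w hwm).1)
    (hcomm s2 h.m2 (hfix e he).2 (hfix w hwm).2) (by
      obtain ⟨hw', e1⟩ := siegel_pow hQe hw p
      rw [hc, e1]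
      ext v
      rw [siegel_apply, CharP.cast_eq_zero, zero_smul]
      simp)
  obtain ⟨v, hv⟩ : ∃ v, polar (plusForm 4 F) e v ≠ 0 := by
    by_contra hno
    push Not at hno
    exact he0 (ClassicalGeometry.Triality.nondeg8 e hno)
  apply hwe
  have e1 : c v = v := by rw [hc1]; rfl
  rw [hc, siegel_apply] at e1
  have e2 : polar (plusForm 4 F) e v • w = (polar (plusForm 4 F) w v + plusForm 4 F w * polar (plusForm 4 F) e v) • e := by
    have e3 : v + polar (plusForm 4 F) e v • w - polar (plusForm 4 F) w v • e -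
        (plusForm 4 F w * polar (plusForm 4 F) e v) • e - v = 0 := by rw [e1, sub_self]
    have e4 : polar (plusForm 4 F) e v • w = (v + polar (plusForm 4 F) e v • w - polar (plusForm 4 F) w v • e -
        (plusForm 4 F w * polar (plusForm 4 F) e v) • e - v) + (polar (plusForm 4 F) w v +
          plusForm 4 F w * polar (plusForm 4 F) e v) • e := by module
    rw [e4, e3, zero_add]
  rw [Submodule.mem_span_singleton]
  refine ⟨(polar (plusForm 4 F) e v)⁻¹ * (polar (plusForm 4 F) w v + plusForm 4 F w * polar (plusForm 4 F) e v), ?_⟩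
  rw [mul_smul, ← e2, smul_smul, inv_mul_cancel₀ hv, one_smul]

omit [Finite F] in
/-- the product of two commuting root elements -/
theorem exists_c {Q : QuadraticForm F (V8 F)} {x x' b b' : V8 F} (hx : Q x = 0) (hx' : Q x' = 0) (hb : Q b = 0)
    (hb' : Q b' = 0) (e1 : polar Q x' b = 0) (e2 : polar Q x b' = 0) (e3 : polar Q x x' = 0) (e4 : polar Q x b = 0)
    (e5 : polar Q x' b' = 0) (e6 : polar Q b b' = 0) :
    ∃ c ∈ E Q, (∀ v, c v = v + (polar Q x' v • b - polar Q b v • x' - polar Q x v • b' + polar Q b' v • x)) ∧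
      ∀ k : ℕ, (k : F) = 0 → c ^ k = 1 := by
  have e2' : polar Q x (-b') = 0 := by rw [polar_neg_right, e2, neg_zero]
  have hx'x : polar Q x' x = 0 := by rw [polar_comm, e3]
  have hbx : polar Q b x = 0 := by rw [polar_comm, e4]
  have hc : ∀ v, (siegel Q x' b hx' e1 * siegel Q x (-b') hx e2') v =
      v + (polar Q x' v • b - polar Q b v • x' - polar Q x v • b' + polar Q b' v • x) := by
    intro v
    rw [LinearEquiv.mul_apply, siegel_apply, siegel_apply, hb, QuadraticMap.map_neg, hb']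
    simp only [polar_add_right, polar_sub_right, polar_smul_right, polar_neg_left, polar_neg_right, e5, hx'x, e6, hbx,
      zero_mul, zero_smul, sub_zero, smul_zero, neg_zero, add_zero]
    module
  refine ⟨siegel Q x' b hx' e1 * siegel Q x (-b') hx e2', mul_mem (siegel_mem_E _ _) (siegel_mem_E _ _), hc, ?_⟩
  set c := siegel Q x' b hx' e1 * siegel Q x (-b') hx e2' with hcd
  have hxx : polar Q x x = 0 := polar_self_of_sing hx
  have hx'x' : polar Q x' x' = 0 := polar_self_of_sing hx'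
  have hbb : polar Q b b = 0 := polar_self_of_sing hb
  have hb'b' : polar Q b' b' = 0 := polar_self_of_sing hb'
  have hbx' : polar Q b x' = 0 := by rw [polar_comm, e1]
  have hb'x : polar Q b' x = 0 := by rw [polar_comm, e2]
  have hb'x' : polar Q b' x' = 0 := by rw [polar_comm, e5]
  have hb'b : polar Q b' b = 0 := by rw [polar_comm, e6]
  have key : ∀ (k : ℕ) (v : V8 F), (c ^ k) v =
      v + (k : F) • (polar Q x' v • b - polar Q b v • x' - polar Q x v • b' + polar Q b' v • x) := by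
    intro k
    induction k with
    | zero => intro v; simp
    | succ k ih =>
      intro v
      rw [pow_succ', LinearEquiv.mul_apply, ih, hc]
      simp only [polar_add_right, polar_sub_right, polar_smul_right, e1, e2, e3, e4, e5, e6, hx'x, hbx, hxx, hx'x', hbb,
        hb'b', hbx', hb'x, hb'x', hb'b, smul_zero, sub_zero, add_zero]
      push_cast
      module
  intro k hk
  ext v
  rw [key, hk, zero_smul, add_zero]
  rfl

/-- (P2d) -/
theorem dim_d_of (h : GB p s1 s2) {t : F × F}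
    (hnd : ∀ v ∈ Vt s1 s2 t, (∀ w ∈ Vt s1 s2 t, polar (plusForm 4 F) v w = 0) → v = 0)
    (h1 : t.1 ≠ 2) (h2 : t.2 ≠ 2) (h0 : Vt s1 s2 t ≠ ⊥) :
    ∃ L L' : Submodule F (V8 F), finrank F L = 2 ∧ finrank F L' = 2 ∧ (∀ v ∈ L, plusForm 4 F v = 0) ∧
      (∀ v ∈ L', plusForm 4 F v = 0) ∧ (∀ v ∈ L, (∀ w ∈ L', polar (plusForm 4 F) v w = 0) → v = 0) ∧
      (∀ c : V8 F ≃ₗ[F] V8 F, c * s1 = s1 * c → c * s2 = s2 * c → ∀ v ∈ L, c v ∈ L) ∧
      (∀ c : V8 F ≃ₗ[F] V8 F, c * s1 = s1 * c → c * s2 = s2 * c → ∀ v ∈ L', c v ∈ L') := by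
  have hO1 := E_le_O h.m1
  have hO2 := E_le_O h.m2
  have hU1 : ∀ v ∈ Vt s1 s2 t, s1 (s1 v) = t.1 • s1 v - v := fun v hv => quad_of (mem_Vt.1 hv).1
  have hU2 : ∀ v ∈ Vt s1 s2 t, s2 (s2 v) = t.2 • s2 v - v := fun v hv => quad_of (mem_Vt.1 hv).2
  have hUs1 : ∀ v ∈ Vt s1 s2 t, s1 v ∈ Vt s1 s2 t := fun v hv => Vt_map rfl h.comm hv
  have hUs2 : ∀ v ∈ Vt s1 s2 t, s2 v ∈ Vt s1 s2 t := fun v hv => Vt_map h.comm.symm rfl hv
  have hpowv : ∀ (s : V8 F ≃ₗ[F] V8 F) (b : F) (u : V8 F), s u = b • u → ∀ k : ℕ, (s ^ k) u = b ^ k • u := by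
    intro s b u hs k
    induction k with
    | zero => simp
    | succ k ih => rw [pow_succ, LinearEquiv.mul_apply, hs, map_smul, ih, smul_smul, pow_succ']
  have hone : ∀ (s : V8 F ≃ₗ[F] V8 F) (b : F) (u : V8 F) (k : ℕ), s u = b • u → u ≠ 0 → s ^ k = 1 → b ^ k = 1 := by
    intro s b u k hs hu hk
    have e := hpowv s b u hs k
    rw [hk] at e
    have e2 : (b ^ k - 1) • u = 0 := by
      rw [sub_smul, one_smul, ← e]
      exact sub_self u
    exact sub_eq_zero.1 ((smul_eq_zero.1 e2).resolve_right hu)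
  have hodd : ∀ (s : V8 F ≃ₗ[F] V8 F) (b : F) (u : V8 F), (∃ n, Odd n ∧ s ^ n = 1) → s u = b • u → u ≠ 0 → b * b = 1 →
      b = 1 := by
    rintro s b u ⟨n, ⟨k, hk⟩, hn⟩ hs hu hbb
    have e := hone s b u n hs hu hn
    rwa [hk, pow_succ, pow_mul, pow_two, hbb, one_pow, one_mul] at e
  -- no eigenvectors of `s2`
  have hne2 : ∀ (b : F) (u : V8 F), u ∈ Vt s1 s2 t → s2 u = b • u → u = 0 := by
    intro b u hu hb
    by_contra hu0
    have e1 := hone s2 b u _ hb hu0 h.q2
    have e2 : b ^ Nat.card F = b := by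
      have := Fintype.ofFinite F
      rw [Nat.card_eq_fintype_card]
      exact FiniteField.pow_card b
    rw [pow_succ, e2] at e1
    have e3 := hodd s2 b u h.odd2 hb hu0 e1
    rw [e3, one_smul] at hb
    have e4 := hU2 u hu
    rw [hb, hb] at e4
    have e5 : (t.2 - 2) • u = 0 := by
      have : (t.2 - 2) • u = (t.2 • u - u) - u := by module
      rw [this, ← e4, sub_self]
    exact h2 (sub_eq_zero.1 ((smul_eq_zero.1 e5).resolve_right hu0))
  obtain ⟨a, u, hu, hu0, hau⟩ := exists_eigen h.q1 hUs1 h0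
  have ha0 : a ≠ 0 := by
    rintro rfl
    rw [zero_smul] at hau
    exact hu0 (s1.map_eq_zero_iff.1 hau)
  have hta : t.1 = a + a⁻¹ := by
    have e := hU1 u hu
    rw [hau, map_smul, hau, smul_smul] at e
    have e2 : (a * a - t.1 * a + 1) • u = 0 := by
      have : (a * a - t.1 * a + 1) • u = (a * a) • u - (t.1 • a • u - u) := by module
      rw [this, ← e, sub_self]
    have e3 := (smul_eq_zero.1 e2).resolve_right hu0
    field_simp
    linear_combination (-1 : F) * e3
  have haa : a * a ≠ 1 := by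
    intro e
    have e1 := hodd s1 a u h.odd1 hau hu0 e
    apply h1
    rw [hta, e1, inv_one]
    norm_num
  have haa' : a⁻¹ * a⁻¹ ≠ 1 := by
    intro e
    apply haa
    field_simp at e
    rw [← pow_two]
    exact e.symm
  have hd : a - a⁻¹ ≠ 0 := by
    intro e
    apply haa
    have : a = a⁻¹ := sub_eq_zero.1 e
    nth_rw 2 [this]
    exact mul_inv_cancel₀ ha0
  -- the eigenspaces
  let Lc : F → Submodule F (V8 F) := fun b => Vt s1 s2 t ⊓ Module.End.eigenspace (s1 : V8 F →ₗ[F] V8 F) b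
  have hL : ∀ b v, v ∈ Lc b ↔ v ∈ Vt s1 s2 t ∧ s1 v = b • v := by
    intro b v
    rw [Submodule.mem_inf, Module.End.mem_eigenspace_iff]
    rfl
  have hts : ∀ b, b * b ≠ 1 → ∀ v ∈ Lc b, plusForm 4 F v = 0 := by
    intro b hb v hv
    have e := mem_O.1 hO1 v
    rw [((hL b v).1 hv).2, QuadraticMap.map_smul, smul_eq_mul] at e
    have e2 : (b * b - 1) * plusForm 4 F v = 0 := by linear_combination e
    exact (mul_eq_zero.1 e2).resolve_left (sub_ne_zero.2 hb)
  have hdec : ∀ v ∈ Vt s1 s2 t, ∃ x ∈ Lc a, ∃ y ∈ Lc a⁻¹, v = x + y := by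
    intro v hv
    have e := hU1 v hv
    refine ⟨(a - a⁻¹)⁻¹ • (s1 v - a⁻¹ • v), ?_, (a - a⁻¹)⁻¹ • (a • v - s1 v), ?_, ?_⟩
    · rw [hL]
      refine ⟨Submodule.smul_mem _ _ (Submodule.sub_mem _ (hUs1 v hv) (Submodule.smul_mem _ _ hv)), ?_⟩
      rw [map_smul, map_sub, map_smul, e, smul_comm a, hta]
      congr 1
      match_scalars <;> field_simp <;> ring
    · rw [hL]
      refine ⟨Submodule.smul_mem _ _ (Submodule.sub_mem _ (Submodule.smul_mem _ _ hv) (hUs1 v hv)), ?_⟩
      rw [map_smul, map_sub, map_smul, e, smul_comm a⁻¹, hta]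
      congr 1
      match_scalars <;> field_simp <;> ring
    · rw [← smul_add]
      have : s1 v - a⁻¹ • v + (a • v - s1 v) = (a - a⁻¹) • v := by module
      rw [this, smul_smul, inv_mul_cancel₀ hd, one_smul]
  have hts1 := hts a haa
  have hts2 := hts a⁻¹ haa'
  have hdual : ∀ v ∈ Lc a, (∀ w ∈ Lc a⁻¹, polar (plusForm 4 F) v w = 0) → v = 0 := by
    intro v hv hw
    apply hnd v ((hL a v).1 hv).1
    intro w hwU
    obtain ⟨x, hx, y, hy, rfl⟩ := hdec w hwU
    rw [polar_add_right, polar_zero_of hts1 hv hx, hw y hy, add_zero]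
  have hdual' : ∀ v ∈ Lc a⁻¹, (∀ w ∈ Lc a, polar (plusForm 4 F) v w = 0) → v = 0 := by
    intro v hv hw
    apply hnd v ((hL a⁻¹ v).1 hv).1
    intro w hwU
    obtain ⟨x, hx, y, hy, rfl⟩ := hdec w hwU
    rw [polar_add_right, polar_zero_of hts2 hv hy, hw x hx, add_zero]
  have hle : ∀ A B : Submodule F (V8 F), (∀ v ∈ A, (∀ w ∈ B, polar (plusForm 4 F) v w = 0) → v = 0) →
      finrank F A ≤ finrank F B := by
    intro A B hAB
    let φ : A →ₗ[F] Module.Dual F B := (LinearMap.lcomp F F B.subtype).comp ((polarBilin (plusForm 4 F)).comp A.subtype)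
    have hφ : Function.Injective φ := by
      rw [injective_iff_map_eq_zero]
      intro x hx
      apply Subtype.ext
      apply hAB x x.2
      intro w hw
      exact LinearMap.congr_fun hx ⟨w, hw⟩
    have := LinearMap.finrank_le_finrank_of_injective hφ
    rwa [Subspace.dual_finrank_eq] at this
  have hinv : ∀ b, ∀ c : V8 F ≃ₗ[F] V8 F, c * s1 = s1 * c → c * s2 = s2 * c → ∀ v ∈ Lc b, c v ∈ Lc b := by
    intro b c hc1 hc2 v hv
    rw [hL] at hv ⊢
    refine ⟨Vt_map hc1 hc2 hv.1, ?_⟩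
    rw [← LinearEquiv.mul_apply, ← hc1, LinearEquiv.mul_apply, hv.2, map_smul]
  have huL : u ∈ Lc a := (hL a u).2 ⟨hu, hau⟩
  have hsuL : s2 u ∈ Lc a := hinv a s2 h.comm.symm rfl u huL
  have h2le : 2 ≤ finrank F (Lc a) := by
    have hli : LinearIndependent F ![(⟨u, huL⟩ : Lc a), ⟨s2 u, hsuL⟩] := by
      rw [LinearIndependent.pair_iff]
      intro α β hαβ
      have e : α • u + β • s2 u = 0 := congrArg Subtype.val hαβ
      have hβ : β = 0 := by
        by_contra hβ
        apply hu0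
        apply hne2 (-(β⁻¹ * α)) u hu
        have : s2 u = β⁻¹ • (α • u + β • s2 u) - (β⁻¹ * α) • u := by
          rw [smul_add, smul_smul, smul_smul, inv_mul_cancel₀ hβ, one_smul]
          abel
        rw [this, e, smul_zero, zero_sub, neg_smul]
      rw [hβ, zero_smul, add_zero] at e
      exact ⟨(smul_eq_zero.1 e).resolve_right hu0, hβ⟩
    have := hli.fintype_card_le_finrank
    simpa using this
  have hLL' := hle _ _ hdual
  have hL'L := hle _ _ hdual'
  have h2ge : finrank F (Lc a⁻¹) ≤ 2 := by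
    by_contra hcon
    have h3 : 3 ≤ finrank F (Lc a⁻¹) := by omega
    -- a vector orthogonal to `u`, `s2 u`
    obtain ⟨b, hbL, hb0, hub, hsub⟩ : ∃ b ∈ Lc a⁻¹, b ≠ 0 ∧ polar (plusForm 4 F) u b = 0 ∧
        polar (plusForm 4 F) (s2 u) b = 0 := by
      have h4 := finrank_ker_two ((polarBilin (plusForm 4 F) u).comp (Lc a⁻¹).subtype)
        ((polarBilin (plusForm 4 F) (s2 u)).comp (Lc a⁻¹).subtype)
      have hnt : Nontrivial (LinearMap.ker (((polarBilin (plusForm 4 F) u).comp (Lc a⁻¹).subtype).prod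
        ((polarBilin (plusForm 4 F) (s2 u)).comp (Lc a⁻¹).subtype))) :=
        Module.nontrivial_of_finrank_pos (R := F) (by omega)
      obtain ⟨x, hx⟩ := exists_ne (0 : LinearMap.ker (((polarBilin (plusForm 4 F) u).comp (Lc a⁻¹).subtype).prod
        ((polarBilin (plusForm 4 F) (s2 u)).comp (Lc a⁻¹).subtype)))
      have hx2 := x.2
      rw [LinearMap.mem_ker, LinearMap.prod_apply, Prod.mk_eq_zero] at hx2
      exact ⟨x.1.1, x.1.2, fun e => hx (Subtype.ext (Subtype.ext e)), hx2.1, hx2.2⟩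
    have hsbL : s2 b ∈ Lc a⁻¹ := hinv a⁻¹ s2 h.comm.symm rfl b hbL
    have hbU := ((hL _ _).1 hbL).1
    have hssb : polar (plusForm 4 F) (s2 u) (s2 b) = 0 := by rw [polar_map hO2, hub]
    have husb : polar (plusForm 4 F) u (s2 b) = 0 := by
      have e : u = t.2 • s2 u - s2 (s2 u) := by rw [hU2 u hu]; abel
      rw [e, sub_eq_add_neg, polar_add_left, polar_neg_left, polar_smul_left, hssb, polar_map hO2, hsub]
      simp
    obtain ⟨c, hcE, hc, hcp⟩ := exists_c (Q := plusForm 4 F) (x := u) (x' := s2 u) (b := b) (b' := s2 b)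
      (hts1 u huL) (hts1 _ hsuL) (hts2 b hbL) (hts2 _ hsbL) hsub husb (polar_zero_of hts1 huL hsuL) hub hssb
      (polar_zero_of hts2 hbL hsbL)
    have hcs1 : c * s1 = s1 * c := by
      apply LinearEquiv.ext
      intro v
      have e1 : ∀ x ∈ Lc a, polar (plusForm 4 F) x (s1 v) = a⁻¹ * polar (plusForm 4 F) x v := by
        intro x hx
        have e := polar_map hO1 x v
        rw [((hL _ _).1 hx).2, polar_smul_left, smul_eq_mul] at e
        rw [← e, inv_mul_cancel_left₀ ha0]
      have e2 : ∀ x ∈ Lc a⁻¹, polar (plusForm 4 F) x (s1 v) = a * polar (plusForm 4 F) x v := by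
        intro x hx
        have e := polar_map hO1 x v
        rw [((hL _ _).1 hx).2, polar_smul_left, smul_eq_mul] at e
        rw [← e, mul_inv_cancel_left₀ ha0]
      rw [LinearEquiv.mul_apply, LinearEquiv.mul_apply, hc, hc, map_add, map_add, map_sub, map_sub, map_smul, map_smul,
        map_smul, map_smul, e1 _ hsuL, e1 _ huL, e2 _ hbL, e2 _ hsbL, ((hL _ _).1 huL).2, ((hL _ _).1 hsuL).2,
        ((hL _ _).1 hbL).2, ((hL _ _).1 hsbL).2]
      module
    have hcs2 : c * s2 = s2 * c := by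
      apply LinearEquiv.ext
      intro v
      have e1 : ∀ x ∈ Vt s1 s2 t, polar (plusForm 4 F) x (s2 v) =
          t.2 * polar (plusForm 4 F) (s2 x) (s2 v) - polar (plusForm 4 F) (s2 (s2 x)) (s2 v) := by
        intro x hx
        rw [hU2 x hx, polar_sub_left, polar_smul_left, smul_eq_mul]
        ring
      have e2 : ∀ x, polar (plusForm 4 F) (s2 x) (s2 v) = polar (plusForm 4 F) x v := fun x => polar_map hO2 x v
      rw [LinearEquiv.mul_apply, LinearEquiv.mul_apply, hc, hc, map_add, map_add, map_sub, map_sub, map_smul, map_smul,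
        map_smul, map_smul, e1 u hu, e1 b hbU, e2, e2, e2, e2, hU2 u hu, hU2 b hbU]
      module
    have hc1 := h.hC c hcE hcs1 hcs2 (hcp p (CharP.cast_eq_zero F p))
    -- contradiction
    have hN : ∀ v ∈ Lc a⁻¹, polar (plusForm 4 F) (s2 u) v • b = polar (plusForm 4 F) u v • s2 b := by
      intro v hv
      have e := hc v
      rw [hc1, polar_zero_of hts2 hbL hv, polar_zero_of hts2 hsbL hv] at e
      have e2 : v = v + (polar (plusForm 4 F) (s2 u) v • b - (0 : F) • s2 u - polar (plusForm 4 F) u v • s2 b +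
        (0 : F) • u) := e
      have e3 := left_eq_add.1 e2
      rw [zero_smul, zero_smul, sub_zero, add_zero, sub_eq_zero] at e3
      exact e3
    have hsu0 : s2 u ≠ 0 := fun e => hu0 (s2.map_eq_zero_iff.1 e)
    apply hsu0
    apply hdual _ hsuL
    intro v hv
    by_contra hne
    have e := hN v hv
    by_cases huv : polar (plusForm 4 F) u v = 0
    · rw [huv, zero_smul] at e
      exact hb0 ((smul_eq_zero.1 e).resolve_left hne)
    · apply hb0
      apply hne2 ((polar (plusForm 4 F) u v)⁻¹ * polar (plusForm 4 F) (s2 u) v) b hbU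
      rw [mul_smul, e, smul_smul, inv_mul_cancel₀ huv, one_smul]
  exact ⟨Lc a, Lc a⁻¹, by omega, by omega, hts1, hts2, hdual, hinv a, hinv a⁻¹⟩

end gb

end Cfsg.Agent.H911.RC
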