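import Cfsg.Agent.H911.RC.CharThree
import Cfsg.Agent.H566.RC.Rot
import Cfsg.Agent.H675.RC.Single

/-!
# S3510, triality, characteristic three: a composition plane of fixed vectors (helper911)

* `exists_Kp_plane` : if `Q a ≠ 0`, `t(a)² ≠ 4 Q(a)³` and `|F| ≥ 4` or the plane `⟨a, a ⋄ a⟩` is anisotropic, then
  `Kp τ a b` for some `b` in this plane (any characteristic);
* `exists_Kp_fix` : characteristic three, `s` a linear isometric automorphism of `dia τ` of order prime to three: such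
  vectors `a`, `b` fixed by `s`, or `|F| = 3` and the fixed space is a split plane `⟨z, w⟩`;
* `exists_Kp_family` : the same for a family.
-/

set_option autoImplicit false

namespace Cfsg.Agent.H911.RC

open Module QuadraticMap Cfsg.Agent.LieClassical.OrthCore Cfsg.Agent.LieClassical.OrthTrans
  Cfsg.Agent.LieClassical.OrthSimple Cfsg.Agent.ClassicalGeometry.OrthAut1
  Cfsg.Agent.ClassicalGeometry.OrthSemi Cfsg.Agent.H198.Classes
  Cfsg.Agent.LieClassical.QuadForms Cfsg.Agent.H198.ClassesPlus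
  Cfsg.Agent.ClassicalGeometry.TrialityOct Cfsg.Agent.ClassicalGeometry.Triality
  Cfsg.Agent.ClassicalGeometry.TrialitySpaces Cfsg.Agent.H198.TriBase Cfsg.Agent.H198.TriAut
  Cfsg.Agent.H198.TriDia Cfsg.Agent.H198.TriTC Cfsg.Agent.H198.TwComp
open Cfsg.Agent.H566.RC (Au Kp)

universe u

variable {F : Type u} [Field F]

section plane

variable {τ : G8 F} (h : Au τ)
include h

theorem aa_aa (a : V8 F) : dia τ (dia τ a a) (dia τ a a) =
    polar (plusForm 4 F) a (dia τ a a) • a - plusForm 4 F a • dia τ a a := by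
  have h1 := h.lin1 a a (dia τ a a)
  rw [h.dia_dia a a, h.dia_smul_left] at h1
  rw [← h1, add_sub_cancel_right]

/-- products in the plane -/
theorem prod_plane (a : V8 F) (x y x' y' : F) : dia τ (x • a + y • dia τ a a) (x' • a + y' • dia τ a a) =
    ((x * y' + y * x') * plusForm 4 F a + y * y' * polar (plusForm 4 F) a (dia τ a a)) • a +
      (x * x' - y * y' * plusForm 4 F a) • dia τ a a := by
  simp only [h.dia_add_left, h.dia_add_right, h.dia_smul_left, h.dia_smul_right]
  rw [h.dia_dia a a, h.dia_dia' a a, aa_aa h]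
  module

theorem Q_plane (a : V8 F) (x y : F) : plusForm 4 F (x • a + y • dia τ a a) =
    x ^ 2 * plusForm 4 F a + x * y * polar (plusForm 4 F) a (dia τ a a) + y ^ 2 * plusForm 4 F a ^ 2 := by
  rw [Q_add, QuadraticMap.map_smul, QuadraticMap.map_smul, h.dia_norm, polar_smul_left, polar_smul_right]
  simp only [smul_eq_mul]
  ring

omit h in
theorem polar_plane (a : V8 F) (x y : F) : polar (plusForm 4 F) a (x • a + y • dia τ a a) =
    2 * x * plusForm 4 F a + y * polar (plusForm 4 F) a (dia τ a a) := by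
  rw [polar_add_right, polar_smul_right, polar_smul_right, polar_self']
  simp only [smul_eq_mul]
  ring

/-- the second vector -/
theorem Kp_of {a : V8 F} (ha : plusForm 4 F a ≠ 0)
    (hd : polar (plusForm 4 F) a (dia τ a a) ^ 2 ≠ 4 * plusForm 4 F a ^ 3) {l : F}
    (hv : l ^ 2 * plusForm 4 F a + l * polar (plusForm 4 F) a (dia τ a a) + plusForm 4 F a ^ 2 ≠ 0)
    (hav : 2 * l * plusForm 4 F a + polar (plusForm 4 F) a (dia τ a a) ≠ 0) :
    ∃ x y : F, Kp τ a (x • a + y • dia τ a a) := by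
  obtain ⟨t, ht⟩ : ∃ t, polar (plusForm 4 F) a (dia τ a a) = t := ⟨_, rfl⟩
  obtain ⟨κ, hκ⟩ : ∃ κ, plusForm 4 F a = κ := ⟨_, rfl⟩
  rw [ht, hκ] at hd hv hav
  rw [hκ] at ha
  obtain ⟨μ, hμ0, hμ⟩ : ∃ μ : F, μ ≠ 0 ∧ μ * (l ^ 2 * κ + l * t + κ ^ 2) = 2 * l * κ + t :=
    ⟨(2 * l * κ + t) / (l ^ 2 * κ + l * t + κ ^ 2), div_ne_zero hav hv, div_mul_cancel₀ _ hv⟩
  refine ⟨1 - μ * l, -μ, ?_, ?_, ?_, ?_, ?_, ?_, ?_⟩
  · rw [Q_plane h, ht, hκ]
    linear_combination μ * hμ
  · rw [hκ]; exact ha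
  · rw [polar_plane, ht, hκ]
    intro e
    apply hd
    have e1 : μ ^ 2 * (t ^ 2 - 4 * κ ^ 3) = 0 := by
      linear_combination e - 4 * κ * μ * hμ
    linear_combination (mul_eq_zero.1 e1).resolve_left (pow_ne_zero 2 hμ0)
  · have e1 := prod_plane h a 1 0 (1 - μ * l) (-μ)
    have e2 := prod_plane h a (1 - μ * l) (-μ) 1 0
    rw [one_smul, zero_smul, add_zero] at e1 e2
    rw [e1, e2]
    module
  all_goals
    have key : ∀ x y : F, ∃ α β : F, x • a + y • dia τ a a = α • a + β • ((1 - μ * l) • a + (-μ) • dia τ a a) := by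
      intro x y
      refine ⟨x + y * (μ⁻¹ - l), -(y * μ⁻¹), ?_⟩
      match_scalars
      · field_simp
        ring
      · field_simp
  · have := key 0 1
    rwa [zero_smul, one_smul, zero_add] at this
  · rw [prod_plane h]
    exact key _ _
  · have e1 := prod_plane h a 1 0 (1 - μ * l) (-μ)
    rw [one_smul, zero_smul, add_zero] at e1
    rw [e1]
    exact key _ _

/-- **a composition plane** -/
theorem exists_Kp_plane [Finite F] {a : V8 F} (ha : plusForm 4 F a ≠ 0)
    (hd : polar (plusForm 4 F) a (dia τ a a) ^ 2 ≠ 4 * plusForm 4 F a ^ 3)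
    (hc : 4 ≤ Nat.card F ∨ ∀ l : F,
      l ^ 2 * plusForm 4 F a + l * polar (plusForm 4 F) a (dia τ a a) + plusForm 4 F a ^ 2 ≠ 0) :
    ∃ x y : F, Kp τ a (x • a + y • dia τ a a) := by
  have := Fintype.ofFinite F
  have hor : polar (plusForm 4 F) a (dia τ a a) ≠ 0 ∨ 2 * plusForm 4 F a ≠ 0 := by
    by_contra hcon
    push Not at hcon
    apply hd
    linear_combination polar (plusForm 4 F) a (dia τ a a) * hcon.1 - 2 * plusForm 4 F a ^ 2 * hcon.2
  rcases hc with hc | hc
  · obtain ⟨t, ht⟩ : ∃ t, polar (plusForm 4 F) a (dia τ a a) = t := ⟨_, rfl⟩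
    obtain ⟨κ, hκ⟩ : ∃ κ, plusForm 4 F a = κ := ⟨_, rfl⟩
    rw [ht, hκ] at hor
    rw [hκ] at ha
    let P : Polynomial F := Polynomial.C t + Polynomial.C (2 * κ) * Polynomial.X
    let R : Polynomial F := Polynomial.C (κ ^ 2) + Polynomial.C t * Polynomial.X + Polynomial.C κ * Polynomial.X ^ 2
    have hP0 : P ≠ 0 := by
      intro e
      have e0 := congrArg (fun p => p.coeff 0) e
      have e1 := congrArg (fun p => p.coeff 1) e
      simp [P, Polynomial.coeff_C, Polynomial.coeff_X] at e0 e1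
      rcases hor with h1 | h1
      · exact h1 e0
      · apply h1
        rcases e1 with e1 | e1 <;> rw [e1] <;> simp
    have hR0 : R ≠ 0 := by
      intro e
      have h1 : R.coeff 2 = κ := by
        simp only [R, Polynomial.coeff_add, Polynomial.coeff_C_mul, Polynomial.coeff_X_pow, Polynomial.coeff_X,
          Polynomial.coeff_C]
        norm_num
      rw [e, Polynomial.coeff_zero] at h1
      exact ha h1.symm
    have hdP : P.natDegree ≤ 1 := by
      simp only [P]
      compute_degree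
    have hdR : R.natDegree ≤ 2 := by
      simp only [R]
      compute_degree
    have hPR : (P * R).natDegree ≤ 3 := Polynomial.natDegree_mul_le.trans (by omega)
    obtain ⟨l, hl⟩ := Polynomial.exists_eval_ne_zero_of_natDegree_lt_card (P * R) (mul_ne_zero hP0 hR0) (by
      rw [Cardinal.mk_fintype, ← Nat.card_eq_fintype_card]
      exact_mod_cast lt_of_le_of_lt hPR (by omega))
    rw [Polynomial.eval_mul] at hl
    have h1 := left_ne_zero_of_mul hl
    have h2 := right_ne_zero_of_mul hl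
    simp only [P, R, Polynomial.eval_add, Polynomial.eval_mul, Polynomial.eval_C, Polynomial.eval_X,
      Polynomial.eval_pow] at h1 h2
    refine Kp_of h (by rw [hκ]; exact ha) hd (l := l) ?_ ?_
    · rw [ht, hκ]
      intro e
      exact h2 (by linear_combination e)
    · rw [ht, hκ]
      intro e
      exact h1 (by linear_combination e)
  · by_cases ht : polar (plusForm 4 F) a (dia τ a a) = 0
    · refine Kp_of h ha hd (l := 1) (hc 1) ?_
      rw [ht, add_zero, mul_one]
      exact hor.resolve_left fun h => h ht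
    · refine Kp_of h ha hd (l := 0) (hc 0) ?_
      rwa [mul_zero, zero_mul, zero_add]

end plane

/-- the restriction of the form to the fixed space of an isometry -/
theorem nondeg_fix {V : Type*} [AddCommGroup V] [Module F V] {Q : QuadraticForm F V} (hQ : Nondeg Q) {s : V ≃ₗ[F] V}
    (hs : s ∈ O Q) {n : ℕ} (hn : s ^ n = 1) (hn0 : (n : F) ≠ 0) :
    Nondeg (Q.comp (LinearMap.ker ((s : V →ₗ[F] V) - 1)).subtype) := by
  intro x hx
  have hmem : ∀ v : V, v ∈ LinearMap.ker ((s : V →ₗ[F] V) - 1) ↔ s v = v := by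
    intro v
    rw [LinearMap.mem_ker, LinearMap.sub_apply, sub_eq_zero]
    rfl
  have hpol : ∀ (g : V ≃ₗ[F] V), g ∈ O Q → ∀ x y, polar Q (g x) (g y) = polar Q x y := by
    intro g hg x y
    rw [polar, ← map_add, hg, hg, hg, polar]
  have hpow : ∀ i, (s ^ i) (x : V) = x := by
    intro i
    induction i with
    | zero => rfl
    | succ i ih => rw [pow_succ, LinearEquiv.mul_apply, (hmem _).1 x.2, ih]
  apply Subtype.ext
  apply hQ
  intro y
  set N : V := ∑ i ∈ Finset.range n, (s ^ i) y with hN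
  have hsN : s N = N := by
    have e1 : s N = ∑ i ∈ Finset.range n, (s ^ (i + 1)) y := by
      rw [hN, map_sum]
      refine Finset.sum_congr rfl fun i _ => ?_
      rw [pow_succ', LinearEquiv.mul_apply]
    have e2 := Finset.sum_range_succ (fun i => (s ^ i) y) n
    have e3 := Finset.sum_range_succ' (fun i => (s ^ i) y) n
    rw [e3, hn, pow_zero] at e2
    rw [e1]
    exact add_right_cancel e2
  have h1 : polar Q (x : V) N = 0 := hx ⟨N, (hmem _).2 hsN⟩
  have h2 : polar Q (x : V) N = n * polar Q (x : V) y := by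
    rw [← polarBilin_apply_apply, hN, map_sum]
    have e1 : ∀ i ∈ Finset.range n, polarBilin Q (x : V) ((s ^ i) y) = polar Q (x : V) y := by
      intro i _
      rw [polarBilin_apply_apply]
      nth_rw 1 [← hpow i]
      exact hpol _ ((O Q).pow_mem hs i) _ _
    rw [Finset.sum_congr rfl e1, Finset.sum_const, Finset.card_range, nsmul_eq_mul]
  rw [h1] at h2
  exact (mul_eq_zero.1 h2.symm).resolve_left hn0

/-- small fields of characteristic three -/
theorem three_elts [Finite F] (h3 : (3 : F) = 0) (h : ¬ 5 ≤ Nat.card F) :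
    Nat.card F = 3 ∧ ∀ c : F, c = 0 ∨ c = 1 ∨ c = -1 := by
  have := Fintype.ofFinite F
  have hc : CharP F 3 := (CharP.charP_iff_prime_eq_zero Nat.prime_three).2 (by exact_mod_cast h3)
  obtain ⟨n, -, hn⟩ := FiniteField.card F 3
  rw [Nat.card_eq_fintype_card] at h ⊢
  have hn1 : (n : ℕ) = 1 := by
    by_contra hne
    have h2 : 2 ≤ (n : ℕ) := by have := n.pos; omega
    have h4 : 3 ^ 2 ≤ 3 ^ (n : ℕ) := Nat.pow_le_pow_right (by norm_num) h2
    rw [← hn] at h4
    omega
  rw [hn1, pow_one] at hn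
  refine ⟨hn, fun c => ?_⟩
  have h4 := FiniteField.pow_card c
  rw [hn] at h4
  have h5 : c * ((c - 1) * (c + 1)) = 0 := by linear_combination h4
  rcases mul_eq_zero.1 h5 with h6 | h6
  · exact Or.inl h6
  · rcases mul_eq_zero.1 h6 with h7 | h7
    · exact Or.inr (Or.inl (sub_eq_zero.1 h7))
    · exact Or.inr (Or.inr (eq_neg_of_add_eq_zero_left h7))

theorem dia_one8 {τ : G8 F} (h : Au τ) : dia τ (one8 F) (one8 F) = one8 F := by
  rw [h.dia_eq, aut_one h.tri, aut_one h.tri, oconj_one8, one_omul]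

/-- the split plane -/
structure Spl (τ : G8 F) (z w : V8 F) : Prop where
  qz : plusForm 4 F z = 1
  qw : plusForm 4 F w = -1
  perp : polar (plusForm 4 F) z w = 0
  zz : dia τ z z = z
  zw : dia τ z w = -w
  wz : dia τ w z = -w
  ww : dia τ w w = z

/-- **characteristic three, one element** -/
theorem exists_Kp_fix [Finite F] (hG : Good (plusForm 4 F)) (h3 : (3 : F) = 0) {τ : G8 F} (h : Au τ)
    {s : V8 F ≃ₗ[F] V8 F} (hs : s ∈ O (plusForm 4 F)) (hm : ∀ u w, s (dia τ u w) = dia τ (s u) (s w)) {n : ℕ}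
    (hn : s ^ n = 1) (hn3 : ¬ 3 ∣ n) :
    (∃ a b, Kp τ a b ∧ s a = a ∧ s b = b) ∨
      (Nat.card F = 3 ∧ ∃ z w, Spl τ z w ∧ s z = z ∧ s w = w ∧ ∀ x, s x = x → ∃ α β : F, x = α • z + β • w) := by
  have hc : CharP F 3 := (CharP.charP_iff_prime_eq_zero Nat.prime_three).2 (by exact_mod_cast h3)
  have hp3 : Fact (Nat.Prime 3) := ⟨Nat.prime_three⟩
  have h2 : (2 : F) ≠ 0 := by
    intro h2
    have : (1 : F) = 0 := by linear_combination h3 - h2
    exact one_ne_zero this
  have hmem : ∀ v : V8 F, v ∈ LinearMap.ker ((s : V8 F →ₗ[F] V8 F) - 1) ↔ s v = v := by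
    intro v
    rw [LinearMap.mem_ker, LinearMap.sub_apply, sub_eq_zero]
    rfl
  have hQ' := nondeg_fix hG.nondeg hs hn (by rwa [Ne, CharP.cast_eq_zero_iff F 3])
  have hev := H675.RC.even_fix hG hs hm
  obtain ⟨z, hz⟩ := exists_z (H675.RC.tc_dia h) hG.nondeg
  have hsz : s z = z := fix_z hG.nondeg hz hs hm
  have hz0 : z ≠ 0 := by
    rintro rfl
    have e := hz (one8 F)
    rw [dia_one8 h, polar_self', norm_one8, polar_zero_left, mul_one] at e
    exact h2 (by rw [e]; ring)
  set U := LinearMap.ker ((s : V8 F →ₗ[F] V8 F) - 1) with hU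
  set Q' := (plusForm 4 F).comp U.subtype with hQ'd
  have hpol : ∀ x y : U, polar Q' x y = polar (plusForm 4 F) (x : V8 F) (y : V8 F) := fun x y => rfl
  have hval : ∀ x : U, Q' x = plusForm 4 F (x : V8 F) := fun x => rfl
  let z' : U := ⟨z, (hmem z).2 hsz⟩
  have hz' : z' ≠ 0 := fun e => hz0 (congrArg Subtype.val e)
  have hd2 : 2 ≤ finrank F U := by
    have : Nontrivial U := ⟨⟨z', 0, hz'⟩⟩
    have h4 : 0 < finrank F U := finrank_pos
    obtain ⟨k, hk⟩ := hev
    omega
  -- fixed vectors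
  have hfix : ∀ a : V8 F, s a = a → ∀ x y : F, s (x • a + y • dia τ a a) = x • a + y • dia τ a a := by
    intro a ha x y
    rw [map_add, map_smul, map_smul, hm, ha]
  by_cases h5 : 5 ≤ Nat.card F
  · obtain ⟨a, ha, ha'⟩ := vec_nine h5 h2 hQ' hd2 z'
    rw [hval] at ha ha'
    rw [hpol] at ha'
    left
    have hsa : s (a : V8 F) = a := (hmem _).1 a.2
    obtain ⟨x, y, hk⟩ := exists_Kp_plane h ha (by
      rw [hz]
      intro e
      apply ha'
      apply frobenius_inj F 3
      rw [frobenius_def, frobenius_def]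
      linear_combination (-1 : F) * e - plusForm 4 F (a : V8 F) ^ 3 * h3) (Or.inl (by omega))
    exact ⟨a, _, hk, hsa, hfix _ hsa _ _⟩
  · obtain ⟨hcard, hF⟩ := three_elts h3 h5
    rcases vec_three hF h3 hQ' hev hz' with ⟨a, ha, ha'⟩ | ⟨h1, w, hw, hzw, hrep⟩
    · rw [hval] at ha ha'
      rw [hpol] at ha'
      left
      have hsa : s (a : V8 F) = a := (hmem _).1 a.2
      obtain ⟨g, hg⟩ : ∃ g, polar (plusForm 4 F) z (a : V8 F) = g := ⟨_, rfl⟩
      obtain ⟨κ, hκ⟩ : ∃ κ, plusForm 4 F (a : V8 F) = κ := ⟨_, rfl⟩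
      have hza := hz (a : V8 F)
      have ha'' : g ^ 2 - κ = -1 := by rw [← hg, ← hκ]; exact ha'
      rw [hg] at hza
      have hdisc : (g ^ 3) ^ 2 - 4 * κ ^ 3 = -1 := by
        have e1 : (g ^ 2 - κ) ^ 3 = -1 := by rw [ha'']; ring
        linear_combination e1 + (g ^ 4 * κ - g ^ 2 * κ ^ 2 - κ ^ 3) * h3
      obtain ⟨x, y, hk⟩ := exists_Kp_plane h ha (by
        rw [hza, hκ]
        intro e
        rw [e, sub_self] at hdisc
        exact one_ne_zero (neg_eq_zero.1 hdisc.symm)) (Or.inr fun l => by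
        rw [hza, hκ]
        intro e
        have e1 : (2 * l * κ + g ^ 3) ^ 2 = -1 := by
          linear_combination hdisc + 4 * κ * e
        rcases hF (2 * l * κ + g ^ 3) with e2 | e2 | e2
        · rw [e2] at e1
          exact one_ne_zero (α := F) (by linear_combination e1)
        · rw [e2] at e1
          exact h2 (by linear_combination e1)
        · rw [e2] at e1
          exact h2 (by linear_combination e1))
      exact ⟨a, _, hk, hsa, hfix _ hsa _ _⟩
    · right
      rw [hval] at h1 hw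
      rw [hpol] at hzw
      have hsw : s (w : V8 F) = w := (hmem _).1 w.2
      have hrep' : ∀ x, s x = x → ∃ α β : F, x = α • z + β • (w : V8 F) := by
        intro x hx
        obtain ⟨α, β, e⟩ := hrep ⟨x, (hmem x).2 hx⟩
        exact ⟨α, β, congrArg Subtype.val e⟩
      obtain ⟨w', hw'⟩ : ∃ w' : V8 F, (w : V8 F) = w' := ⟨_, rfl⟩
      rw [hw'] at hw hsw hrep'
      have h1' : plusForm 4 F z = 1 := h1
      have hzw' : polar (plusForm 4 F) z w' = 0 := by rw [← hw']; exact hzw
      have hwz' : polar (plusForm 4 F) w' z = 0 := by rw [polar_comm]; exact hzw'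
      have hzz : polar (plusForm 4 F) z z = 2 := by rw [polar_self', h1', mul_one]
      have hww : polar (plusForm 4 F) w' w' = -2 := by rw [polar_self', hw]; ring
      -- coordinates
      have c1 : ∀ α β : F, polar (plusForm 4 F) z (α • z + β • w') = 2 * α := by
        intro α β
        rw [polar_add_right, polar_smul_right, polar_smul_right, hzz, hzw', smul_eq_mul, smul_eq_mul]
        ring
      have c2 : ∀ α β : F, polar (plusForm 4 F) w' (α • z + β • w') = -2 * β := by
        intro α β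
        rw [polar_add_right, polar_smul_right, polar_smul_right, hww, hwz', smul_eq_mul, smul_eq_mul]
        ring
      have c3 : ∀ α β : F, plusForm 4 F (α • z + β • w') = α ^ 2 - β ^ 2 := by
        intro α β
        rw [Q_add, QuadraticMap.map_smul, QuadraticMap.map_smul, polar_smul_left, polar_smul_right, hzw', h1', hw]
        simp only [smul_eq_mul]
        ring
      obtain ⟨α₁, β₁, e₁⟩ := hrep' (dia τ z z) (by rw [hm, hsz])
      obtain ⟨α₂, β₂, e₂⟩ := hrep' (dia τ z w') (by rw [hm, hsz, hsw])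
      obtain ⟨α₃, β₃, e₃⟩ := hrep' (dia τ w' z) (by rw [hm, hsz, hsw])
      obtain ⟨α₄, β₄, e₄⟩ := hrep' (dia τ w' w') (by rw [hm, hsw])
      have a1 : α₁ = 1 := by
        have e := hz z
        rw [e₁, c1, hzz] at e
        have e' : 2 * (α₁ - 1) = 0 := by linear_combination e + 2 * h3
        exact sub_eq_zero.1 ((mul_eq_zero.1 e').resolve_left h2)
      have b1 : β₁ = 0 := by
        have e := h.dia_norm z z
        rw [e₁, c3, h1', a1] at e
        exact pow_eq_zero_iff (two_ne_zero) |>.1 (by linear_combination (-1 : F) * e : β₁ ^ 2 = 0)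
      have ezz : dia τ z z = z := by rw [e₁, a1, b1, one_smul, zero_smul, add_zero]
      have a2 : α₂ = 0 := by
        have e := h.assoc z z w'
        rw [ezz, hzw', e₂, c1] at e
        exact (mul_eq_zero.1 e.symm).resolve_left h2
      have a3 : α₃ = 0 := by
        have e := h.assoc w' z z
        rw [ezz, hwz', polar_comm, e₃, c1] at e
        exact (mul_eq_zero.1 e).resolve_left h2
      have ezw : dia τ z w' = β₂ • w' := by rw [e₂, a2, zero_smul, zero_add]
      have ewz : dia τ w' z = β₃ • w' := by rw [e₃, a3, zero_smul, zero_add]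
      have b3 : β₃ ^ 2 = 1 := by
        have e := h.dia_norm w' z
        rw [ewz, QuadraticMap.map_smul, hw, h1', smul_eq_mul] at e
        linear_combination (-1 : F) * e
      have hw0 : w' ≠ 0 := by
        rintro rfl
        rw [QuadraticMap.map_zero] at hw
        exact one_ne_zero (neg_eq_zero.1 hw.symm)
      have b2 : β₂ = -1 := by
        have e := h.lin1 z z w'
        rw [ezz, hzw', zero_smul, ewz, ezw, h.dia_smul_left, ewz, smul_smul, ← pow_two, b3, ← add_smul] at e
        linear_combination (smul_eq_zero.1 e).resolve_right hw0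
      have b3' : β₃ = -1 := by
        have e := h.dia_dia z w'
        rw [ezw, h.dia_smul_left, ewz, h1', smul_smul, one_smul, b2] at e
        have e' : (-1 * β₃ - 1) • w' = 0 := by rw [sub_smul, e, one_smul, sub_self]
        linear_combination (-1 : F) * (smul_eq_zero.1 e').resolve_right hw0
      have b4 : β₄ = 0 := by
        have e := hz w'
        rw [e₄, c2, hzw'] at e
        have e' : 2 * β₄ = 0 := by linear_combination (-1 : F) * e
        exact (mul_eq_zero.1 e').resolve_left h2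
      have a4 : α₄ = 1 := by
        have e := h.assoc z w' w'
        rw [ezw, polar_smul_left, hww, e₄, c1, b2, smul_eq_mul] at e
        have e' : 2 * (α₄ - 1) = 0 := by linear_combination (-1 : F) * e
        exact sub_eq_zero.1 ((mul_eq_zero.1 e').resolve_left h2)
      refine ⟨hcard, z, w', ⟨h1', hw, hzw', ezz, ?_, ?_, ?_⟩, hsz, hsw, hrep'⟩
      · rw [ezw, b2, neg_one_smul]
      · rw [ewz, b3', neg_one_smul]
      · rw [e₄, a4, b4, one_smul, zero_smul, add_zero]

/-- **characteristic three, a family** -/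
theorem exists_Kp_family [Finite F] (hG : Good (plusForm 4 F)) (h3 : (3 : F) = 0) {τ : G8 F} (h : Au τ)
    {ι : Type*} [Finite ι] {M : ι → G8 F} (hlin : ∀ j, IsLin (M j))
    (hex : ∀ j u w, (M j).1 (dia τ u w) = dia τ ((M j).1 u) ((M j).1 w)) {r : ι → ℕ} (hr : ∀ j, (r j).Prime)
    (hinj : Function.Injective r) (hM : ∀ j, M j ^ r j = 1) (hc : ∀ i j, M i * M j = M j * M i) (hr3 : ∀ j, r j ≠ 3) :
    (∃ a b, Kp τ a b ∧ ∀ j, (M j).1 a = a ∧ (M j).1 b = b) ∨
      (Nat.card F = 3 ∧ ∃ z w, Spl τ z w ∧ (∀ j, (M j).1 z = z ∧ (M j).1 w = w) ∧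
        ∀ x, (∀ j, (M j).1 x = x) → ∃ α β : F, x = α • z + β • w) := by
  have hgam : ∀ x y : O (plusForm 4 F), gamO _ x = gamO _ y → x = y := by
    intro x y e
    apply Subtype.ext
    apply LinearEquiv.ext
    intro v
    exact congrArg (fun N : G8 F => N.1 v) e
  have hone : ∀ j, IsSS (plusForm 4 F) (RingEquiv.refl F) 1 (M j).1 := by
    intro j
    obtain ⟨c, hcj⟩ := hlin j
    have e1 := hcj.form (one8 F)
    have e2 := congrArg (plusForm 4 F) (hex j (one8 F) (one8 F))
    rw [dia_one8 h, h.dia_norm, e1, norm_one8, RingEquiv.refl_apply, mul_one] at e2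
    have e3 : c = 1 := by
      have e4 : c * (c - 1) = 0 := by linear_combination (-1 : F) * e2
      exact sub_eq_zero.1 ((mul_eq_zero.1 e4).resolve_left hcj.ne)
    rwa [e3] at hcj
  choose g hg using fun j => exists_gamO (hone j)
  have hgj : ∀ j v, (M j).1 v = (g j : V8 F ≃ₗ[F] V8 F) v := by
    intro j v
    rw [← hg j]
    rfl
  obtain ⟨s, hs, ⟨n, hn, hn0, hnr⟩, hgs⟩ := H675.RC.exists_single g
    (fun i j => hgam _ _ (by rw [map_mul, map_mul, hg, hg]; exact hc i j)) hr hinj
    (fun i => hgam _ _ (by rw [map_pow, hg, hM, map_one]))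
  have hm : ∀ u w, (s : V8 F ≃ₗ[F] V8 F) (dia τ u w) = dia τ ((s : V8 F ≃ₗ[F] V8 F) u) ((s : V8 F ≃ₗ[F] V8 F) w) := by
    refine Subgroup.closure_induction (p := fun (s : O (plusForm 4 F)) _ => ∀ u w,
      (s : V8 F ≃ₗ[F] V8 F) (dia τ u w) = dia τ ((s : V8 F ≃ₗ[F] V8 F) u) ((s : V8 F ≃ₗ[F] V8 F) w))
      ?_ ?_ ?_ ?_ hs
    · rintro _ ⟨j, rfl⟩ u w
      rw [← hgj, ← hgj, ← hgj, hex]
    · intro u w
      rfl
    · intro x y _ _ hx hy u w
      change (x : V8 F ≃ₗ[F] V8 F) ((y : V8 F ≃ₗ[F] V8 F) (dia τ u w)) = _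
      rw [hy, hx]
      rfl
    · intro x _ hx u w
      apply (x : V8 F ≃ₗ[F] V8 F).injective
      rw [hx]
      change (x : V8 F ≃ₗ[F] V8 F) ((x : V8 F ≃ₗ[F] V8 F).symm (dia τ u w)) =
        dia τ ((x : V8 F ≃ₗ[F] V8 F) ((x : V8 F ≃ₗ[F] V8 F).symm u)) ((x : V8 F ≃ₗ[F] V8 F) ((x : V8 F ≃ₗ[F] V8 F).symm w))
      rw [LinearEquiv.apply_symm_apply, LinearEquiv.apply_symm_apply, LinearEquiv.apply_symm_apply]
  have hfs : ∀ x : V8 F, (∀ j, (M j).1 x = x) → (s : V8 F ≃ₗ[F] V8 F) x = x := by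
    intro x hx
    refine Subgroup.closure_induction (p := fun (s : O (plusForm 4 F)) _ => (s : V8 F ≃ₗ[F] V8 F) x = x)
      ?_ ?_ ?_ ?_ hs
    · rintro _ ⟨j, rfl⟩
      rw [← hgj, hx]
    · rfl
    · intro a b _ _ ha hb
      change (a : V8 F ≃ₗ[F] V8 F) ((b : V8 F ≃ₗ[F] V8 F) x) = x
      rw [hb, ha]
    · intro a _ ha
      change (a : V8 F ≃ₗ[F] V8 F).symm x = x
      rw [LinearEquiv.symm_apply_eq, ha]
  have hsf : ∀ x : V8 F, (s : V8 F ≃ₗ[F] V8 F) x = x → ∀ j, (M j).1 x = x := by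
    intro x hx j
    obtain ⟨k, hk⟩ := hgs j
    rw [hgj, ← hk]
    have key : ∀ t ∈ Subgroup.zpowers s, (t : V8 F ≃ₗ[F] V8 F) x = x := by
      intro t ht
      rw [Subgroup.zpowers_eq_closure] at ht
      refine Subgroup.closure_induction (p := fun (t : O (plusForm 4 F)) _ => (t : V8 F ≃ₗ[F] V8 F) x = x)
        ?_ ?_ ?_ ?_ ht
      · intro y hy
        rw [Set.mem_singleton_iff.1 hy, hx]
      · rfl
      · intro a b _ _ ha hb
        change (a : V8 F ≃ₗ[F] V8 F) ((b : V8 F ≃ₗ[F] V8 F) x) = x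
        rw [hb, ha]
      · intro a _ ha
        change (a : V8 F ≃ₗ[F] V8 F).symm x = x
        rw [LinearEquiv.symm_apply_eq, ha]
    exact key _ ⟨k, rfl⟩
  rcases exists_Kp_fix hG h3 h s.2 hm (n := n) (congrArg Subtype.val hn) (by
    intro h4
    obtain ⟨i, hi⟩ := hnr 3 Nat.prime_three h4
    exact hr3 i hi) with ⟨a, b, hk, ha, hb⟩ | ⟨hcd, z, w, hS, hz, hw, hx⟩
  · exact Or.inl ⟨a, b, hk, fun j => ⟨hsf a ha j, hsf b hb j⟩⟩
  · exact Or.inr ⟨hcd, z, w, hS, fun j => ⟨hsf z hz j, hsf w hw j⟩, fun x hx' => hx x (hfs x hx')⟩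

end Cfsg.Agent.H911.RC
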